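import Mathlib
import Cfsg.Agent.S0081

/-!
A normal subgroup `K` of `G` inside the derived subgroup whose complement there is a single
class: general consequences.
-/

set_option autoImplicit false
set_option linter.unusedSectionVars false
set_option linter.style.haveILetI false

open scoped commutatorElement
open Cfsg

namespace CfsgLib.OneException

/-- The complement of `K` in the derived subgroup is the class of `g`. -/
structure Cls {G : Type*} [Group G] (K : Subgroup G) (g : G) : Prop where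
  normal : K.Normal
  le : K ≤ commutator G
  mem : g ∈ commutator G
  notMem : g ∉ K
  cls : ∀ y ∈ commutator G, y ∉ K → IsConj g y
  cent : ∀ z : G, (∀ x : G, ⁅z, x⁆ ∈ K) → z ∈ commutator G

variable {G : Type*} [Group G] [Finite G]

theorem comm_mem (a b : G) : ⁅a, b⁆ ∈ commutator G :=
  Subgroup.commutator_mem_commutator (Subgroup.mem_top a) (Subgroup.mem_top b)

theorem card_class_mul (g : G) (A : Set G) (hA : ∀ y, y ∈ A ↔ IsConj g y) :
    Nat.card A * Nat.card (Subgroup.centralizer ({g} : Set G)) = Nat.card G := by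
  set C := Subgroup.centralizer ({g} : Set G) with hC
  have hwd : ∀ a b : G, QuotientGroup.leftRel C a b → a * g * a⁻¹ = b * g * b⁻¹ := by
    intro a b hab
    rw [QuotientGroup.leftRel_apply, hC, Subgroup.mem_centralizer_singleton_iff] at hab
    calc a * g * a⁻¹ = a * (g * (a⁻¹ * b)) * b⁻¹ := by group
      _ = a * (a⁻¹ * b * g) * b⁻¹ := by rw [hab]
      _ = b * g * b⁻¹ := by group
  let f : G ⧸ C → A := Quotient.lift (fun a => (⟨a * g * a⁻¹, (hA _).mpr (isConj_iff.mpr ⟨a, rfl⟩)⟩ : A))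
    fun a b hab => Subtype.ext (hwd a b hab)
  have hf : Function.Bijective f := by
    constructor
    · intro u v
      induction u using QuotientGroup.induction_on
      induction v using QuotientGroup.induction_on
      rename_i a b
      intro e
      have e1 : a * g * a⁻¹ = b * g * b⁻¹ := congrArg Subtype.val e
      refine QuotientGroup.eq.mpr ?_
      rw [hC, Subgroup.mem_centralizer_singleton_iff]
      calc a⁻¹ * b * g = a⁻¹ * (b * g * b⁻¹) * b := by group
        _ = a⁻¹ * (a * g * a⁻¹) * b := by rw [e1]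
        _ = g * (a⁻¹ * b) := by group
    · rintro ⟨y, hy⟩
      obtain ⟨c, hc⟩ := isConj_iff.mp ((hA y).mp hy)
      exact ⟨QuotientGroup.mk c, Subtype.ext hc⟩
  rw [← Nat.card_eq_of_bijective f hf, ← Subgroup.index_eq_card, Subgroup.index_mul_card]

theorem card_map_mk_mul (K : Subgroup G) [K.Normal] (H : Subgroup G) :
    Nat.card (H.map (QuotientGroup.mk' K)) * Nat.card ↥(H ⊓ K) = Nat.card H := by
  set f := MonoidHom.domRestrict (QuotientGroup.mk' K) H with hf
  have h1 : f.ker = K.subgroupOf H := by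
    ext x
    exact (QuotientGroup.eq_one_iff (x : G))
  have h2 : f.range = H.map (QuotientGroup.mk' K) := MonoidHom.domRestrict_range H _
  have h3 := Subgroup.index_mul_card f.ker
  rw [Subgroup.index_ker, h2, h1] at h3
  rwa [← Nat.card_congr (Subgroup.subgroupOfEquivOfLe (inf_le_left : H ⊓ K ≤ H)).toEquiv,
    Subgroup.inf_subgroupOf_left]

/-- If the commutators with `y` land in `A` and the centralizer is small, they fill `A`. -/
theorem exists_commutator_eq (H A : Subgroup G) (y : G) (hle : ∀ s ∈ H, ⁅s, y⁆ ∈ A)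
    (hcard : Nat.card A * Nat.card ↥(H ⊓ Subgroup.centralizer ({y} : Set G)) ≤ Nat.card H) :
    ∀ k ∈ A, ∃ s ∈ H, ⁅s, y⁆ = k := by
  set C := (Subgroup.centralizer ({y} : Set G)).subgroupOf H with hC
  let f : H ⧸ C → A := fun q => ⟨⁅((q.out : H) : G), y⁆, hle _ q.out.2⟩
  have hinj : Function.Injective f := by
    intro u v e
    have e1 := congrArg Subtype.val e
    simp only [f, commutatorElement_def] at e1
    have e2 := mul_right_cancel e1
    rw [← QuotientGroup.out_eq' u, ← QuotientGroup.out_eq' v, QuotientGroup.eq]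
    refine Subgroup.mem_subgroupOf.mpr ?_
    rw [Subgroup.mem_centralizer_singleton_iff]
    simp only [Subgroup.coe_mul, Subgroup.coe_inv]
    calc ((u.out : H) : G)⁻¹ * (v.out : H) * y
        = ((u.out : H) : G)⁻¹ * ((v.out : H) * y * ((v.out : H) : G)⁻¹) * (v.out : H) := by group
      _ = ((u.out : H) : G)⁻¹ * ((u.out : H) * y * ((u.out : H) : G)⁻¹) * (v.out : H) := by rw [e2]
      _ = y * (((u.out : H) : G)⁻¹ * (v.out : H)) := by group
  have h1 : Nat.card A ≤ Nat.card (H ⧸ C) := by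
    refine Nat.le_of_mul_le_mul_right ?_ (Nat.card_pos (α := C))
    rw [← Subgroup.index_eq_card, Subgroup.index_mul_card]
    refine le_trans (le_of_eq ?_) hcard
    rw [hC, ← Nat.card_congr (Subgroup.subgroupOfEquivOfLe
      (inf_le_left : H ⊓ Subgroup.centralizer ({y} : Set G) ≤ H)).toEquiv,
      Subgroup.inf_subgroupOf_left]
  have hbij := hinj.bijective_of_nat_card_le h1
  intro k hk
  obtain ⟨q, hq⟩ := hbij.2 ⟨k, hk⟩
  exact ⟨_, q.out.2, congrArg Subtype.val hq⟩

/-- A normal `p`-complement of a normal subgroup is normal in the whole group. -/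
theorem exists_core {p : ℕ} [Fact p.Prime] {K : Subgroup G} [K.Normal] {A : Type*} [Group A]
    [Finite A] (f : A →* G) (hf : Function.Injective f) (hr : f.range = K)
    (h : Cfsg.HasNormalPComplement p A) :
    ∃ R : Subgroup G, R.Normal ∧ R ≤ K ∧ (Nat.card R).Coprime p ∧
      ∀ x ∈ K, ∃ e : ℕ, x ^ p ^ e ∈ R := by
  obtain ⟨Q, R', hn, hc⟩ := h
  have hidx : R'.index = Nat.card Q := hc.symm.index_eq_card
  obtain ⟨j, hj⟩ := IsPGroup.iff_card.mp Q.2
  have hcop : (Nat.card R').Coprime p := by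
    rw [Nat.coprime_comm, (Fact.out : p.Prime).coprime_iff_not_dvd, ← hc.index_eq_card]
    exact Q.not_dvd_index
  have hpow : ∀ x ∈ K, ∃ e : ℕ, x ^ p ^ e ∈ R'.map f := by
    intro x hx
    rw [← hr] at hx
    obtain ⟨a, rfl⟩ := hx
    refine ⟨j, a ^ p ^ j, ?_, map_pow f a _⟩
    rw [SetLike.mem_coe, ← hj, ← hidx]
    exact R'.pow_index_mem a
  have hle : R'.map f ≤ K := hr ▸ Subgroup.map_le_range f R'
  have hcard : Nat.card (R'.map f) = Nat.card R' := Subgroup.card_map_of_injective hf
  refine ⟨R'.map f, ⟨fun r hr' c => ?_⟩, hle, hcard ▸ hcop, hpow⟩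
  obtain ⟨e, he⟩ := hpow _ (Subgroup.Normal.conj_mem inferInstance r (hle hr') c)
  have h1 : (orderOf r).Coprime (p ^ e) :=
    Nat.Coprime.pow_right _ (Nat.Coprime.coprime_dvd_left (Subgroup.orderOf_dvd_natCard _ hr')
      (hcard ▸ hcop))
  obtain ⟨u, hu⟩ := exists_pow_eq_self_of_coprime (x := r) h1.symm
  rw [show c * r * c⁻¹ = ((c * r * c⁻¹) ^ p ^ e) ^ u by rw [conj_pow, conj_pow, hu]]
  exact pow_mem he u

/-- Assembling solvability. -/
theorem solvable_of_core {p : ℕ} [Fact p.Prime] {K R : Subgroup G} [K.Normal]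
    (hab : ∀ a ∈ commutator G, ∀ b ∈ commutator G, ⁅a, b⁆ ∈ K) (hRn : R.Normal) (hle : R ≤ K)
    (hpow : ∀ x ∈ K, ∃ e : ℕ, x ^ p ^ e ∈ R) (hR : Group.IsSolvable R) : Group.IsSolvable G := by
  haveI := hRn
  haveI := hR
  haveI hq : Group.IsNilpotent (↥K ⧸ R.subgroupOf K) := by
    refine IsPGroup.isNilpotent (p := p) (fun q => ?_)
    obtain ⟨⟨x, hx⟩, rfl⟩ := QuotientGroup.mk_surjective q
    obtain ⟨e, he⟩ := hpow x hx
    exact ⟨e, (QuotientGroup.eq_one_iff _).mpr he⟩
  haveI : Group.IsSolvable (R.subgroupOf K) :=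
    Group.isSolvable_of_isSolvable_injective (f := ((Subgroup.subgroupOfEquivOfLe hle).toMonoidHom))
      (Subgroup.subgroupOfEquivOfLe hle).injective
  haveI hK : Group.IsSolvable K :=
    Group.isSolvable_of_ker_le_range (R.subgroupOf K).subtype
      (QuotientGroup.mk' (R.subgroupOf K)) (by rw [QuotientGroup.ker_mk', Subgroup.range_subtype])
  haveI : Group.IsSolvable (G ⧸ K) := by
    refine ⟨2, ?_⟩
    rw [← map_derivedSeries_eq (QuotientGroup.mk'_surjective K) 2, Subgroup.map_eq_bot_iff,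
      QuotientGroup.ker_mk']
    show ⁅derivedSeries G 1, derivedSeries G 1⁆ ≤ K
    rw [derivedSeries_one]
    exact Subgroup.commutator_le.mpr hab
  exact Group.isSolvable_of_ker_le_range K.subtype (QuotientGroup.mk' K)
    (by rw [QuotientGroup.ker_mk', Subgroup.range_subtype])

namespace Cls

variable {K : Subgroup G} {g : G}

theorem of_isConj (h : Cls K g) {y : G} (hy : IsConj g y) : y ∈ commutator G ∧ y ∉ K := by
  haveI := h.normal
  obtain ⟨c, rfl⟩ := isConj_iff.mp hy
  refine ⟨Subgroup.Normal.conj_mem inferInstance _ h.mem c, fun e => h.notMem ?_⟩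
  have := Subgroup.Normal.conj_mem h.normal _ e c⁻¹
  rwa [show c⁻¹ * (c * g * c⁻¹) * c⁻¹⁻¹ = g by group] at this

theorem exists_prime (h : Cls K g) :
    ∃ p : ℕ, p.Prime ∧ (∀ y ∈ commutator G, y ^ p ∈ K) ∧
      ∀ y ∈ commutator G, y ∉ K → ∃ e : ℕ, y ^ p ^ e = 1 := by
  haveI := h.normal
  set o := orderOf (g : G ⧸ K) with ho
  have ho1 : o ≠ 1 := fun e => h.notMem ((QuotientGroup.eq_one_iff g).mp (orderOf_eq_one_iff.mp e))
  have hp := Nat.minFac_prime ho1
  set p := o.minFac
  haveI := Fact.mk hp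
  obtain ⟨o', ho'⟩ := Nat.minFac_dvd o
  have hgK : g ^ o' ∉ K := by
    rw [← QuotientGroup.eq_one_iff]
    intro e
    rw [QuotientGroup.mk_pow, ← orderOf_dvd_iff_pow_eq_one, ← ho, ho'] at e
    have hpos : 0 < o := orderOf_pos _
    have h1 : 0 < o' := Nat.pos_of_mul_pos_left (ho' ▸ hpos)
    have h2 := Nat.le_of_dvd h1 e
    have h3 := hp.two_le
    nlinarith
  have hgp : (g ^ o') ^ p ∈ K := by
    rw [← pow_mul, mul_comm o', ← ho', ← QuotientGroup.eq_one_iff, QuotientGroup.mk_pow, ho,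
      pow_orderOf_eq_one]
  have hpow : ∀ y ∈ commutator G, y ^ p ∈ K := by
    intro y hy
    by_cases hyK : y ∈ K
    · exact pow_mem hyK p
    obtain ⟨c, hc⟩ := isConj_iff.mp
      ((h.cls _ (pow_mem h.mem o') hgK).symm.trans (h.cls y hy hyK))
    rw [← hc, conj_pow]
    exact Subgroup.Normal.conj_mem inferInstance _ hgp c
  refine ⟨p, hp, hpow, fun y hy hyK => ?_⟩
  obtain ⟨k, r, hr, hkr⟩ := Nat.exists_eq_pow_mul_and_not_dvd (orderOf_pos g).ne' p hp.ne_one
  have hz : g ^ r ∉ K := by
    intro e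
    apply h.notMem
    rw [← QuotientGroup.eq_one_iff, ← orderOf_eq_one_iff]
    refine Nat.eq_one_of_dvd_coprimes (Nat.Coprime.symm (hp.coprime_iff_not_dvd.mpr hr)) ?_ ?_
    · exact orderOf_dvd_of_pow_eq_one (by rw [← QuotientGroup.mk_pow, QuotientGroup.eq_one_iff]; exact e)
    · exact orderOf_dvd_of_pow_eq_one
        (by rw [← QuotientGroup.mk_pow, QuotientGroup.eq_one_iff]; exact hpow g h.mem)
  obtain ⟨c, hc⟩ := isConj_iff.mp ((h.cls _ (pow_mem h.mem r) hz).symm.trans (h.cls y hy hyK))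
  refine ⟨k, ?_⟩
  rw [← hc, conj_pow, ← pow_mul, mul_comm r, ← hkr, pow_orderOf_eq_one]
  group

theorem abelian (h : Cls K g) : ∀ a ∈ commutator G, ∀ b ∈ commutator G, ⁅a, b⁆ ∈ K := by
  haveI := h.normal
  obtain ⟨p, hp, hpow, -⟩ := h.exists_prime
  haveI := Fact.mk hp
  set Q := (commutator G).map (QuotientGroup.mk' K)
  have hQ : IsPGroup p Q := by
    rintro ⟨q, y, hy, rfl⟩
    exact ⟨1, Subtype.ext (by
      rw [pow_one, SubmonoidClass.coe_pow, Subgroup.coe_one, ← map_pow, QuotientGroup.mk'_apply,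
        QuotientGroup.eq_one_iff]
      exact hpow y hy)⟩
  haveI : Nontrivial Q := by
    refine ⟨⟨⟨_, g, h.mem, rfl⟩, 1, fun e => h.notMem ?_⟩⟩
    exact (QuotientGroup.eq_one_iff g).mp (congrArg Subtype.val e)
  haveI := hQ.center_nontrivial
  obtain ⟨⟨⟨q, y, hy, rfl⟩, hc⟩, hne⟩ := exists_ne (1 : Subgroup.center Q)
  have hyK : y ∉ K := fun e => hne (Subtype.ext (Subtype.ext ((QuotientGroup.eq_one_iff y).mpr e)))
  intro a ha b hb
  by_cases haK : a ∈ K
  · rw [commutatorElement_def, show a * b * a⁻¹ * b⁻¹ = a * (b * a⁻¹ * b⁻¹) by group]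
    exact mul_mem haK (Subgroup.Normal.conj_mem inferInstance _ (inv_mem haK) b)
  obtain ⟨x, hx⟩ := isConj_iff.mp ((h.cls y hy hyK).symm.trans (h.cls a ha haK))
  have hb' : x⁻¹ * b * x ∈ commutator G := by
    have := Subgroup.Normal.conj_mem inferInstance b hb x⁻¹
    rwa [inv_inv] at this
  have h1 : ⁅y, x⁻¹ * b * x⁆ ∈ K := by
    rw [← QuotientGroup.eq_one_iff, ← QuotientGroup.mk'_apply, map_commutatorElement,
      commutatorElement_eq_one_iff_mul_comm]
    exact (congrArg Subtype.val (Subgroup.mem_center_iff.mp hc ⟨_, _, hb', rfl⟩)).symm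
  have h2 := Subgroup.Normal.conj_mem inferInstance _ h1 x
  rw [← hx]
  simp only [commutatorElement_def] at h2 ⊢
  group at h2 ⊢
  exact h2

theorem card_class (h : Cls K g) :
    (Nat.card (commutator G) - Nat.card K) * Nat.card (Subgroup.centralizer ({g} : Set G)) =
      Nat.card G := by
  have hA : ∀ y, y ∈ ((commutator G : Set G) \ (K : Set G)) ↔ IsConj g y := fun y =>
    ⟨fun hy => h.cls y hy.1 hy.2, fun hy => h.of_isConj hy⟩
  rw [← card_class_mul g _ hA, Nat.card_coe_set_eq, Set.ncard_sdiff h.le, ← Nat.card_coe_set_eq,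
    ← Nat.card_coe_set_eq]
  rfl

/-- The derived subgroup modulo `K` has at least two elements; its order. -/
theorem card_commutator (h : Cls K g) :
    haveI := h.normal
    Nat.card (commutator G) =
      Nat.card ((commutator G).map (QuotientGroup.mk' K)) * Nat.card K := by
  haveI := h.normal
  rw [← card_map_mk_mul K (commutator G), inf_eq_right.mpr h.le]

/-- The passage from a Frattini condition to a normal `p`-complement of `K`. -/
theorem core_of_frattini (h : Cls K g) {p : ℕ} [Fact p.Prime] (Pn : Sylow p (commutator G))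
    {A : Type*} [Group A] [Finite A] (f : A →* ↥(Pn : Subgroup (commutator G)))
    (hf : Function.Surjective f)
    (hfr : ∀ x : commutator G, (x : G) ∈ K → x ∈ (Pn : Subgroup (commutator G)) →
      ∃ a ∈ frattini A, (f a : commutator G) = x) :
    ∃ R : Subgroup G, R.Normal ∧ R ≤ K ∧ (Nat.card R).Coprime p ∧
      ∀ x ∈ K, ∃ e : ℕ, x ^ p ^ e ∈ R := by
  haveI := h.normal
  haveI : (K.subgroupOf (commutator G)).Normal := inferInstance
  have h1 : HasNormalPComplement p (K.subgroupOf (commutator G)) := by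
    refine Cfsg.Agent.S0081.result Pn _ fun x hx => ?_
    obtain ⟨hxK, hxP⟩ := Subgroup.mem_inf.mp hx
    obtain ⟨a, ha, e⟩ := hfr x (Subgroup.mem_subgroupOf.mp hxK) hxP
    exact ⟨f a, frattini_le_comap_frattini_of_surjective hf ha, e⟩
  refine exists_core ((commutator G).subtype.comp (K.subgroupOf (commutator G)).subtype)
    ((Subgroup.subtype_injective _).comp (Subgroup.subtype_injective _)) ?_ h1
  rw [MonoidHom.range_comp, Subgroup.range_subtype, Subgroup.map_subgroupOf_eq_of_le h.le]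

end Cls

end CfsgLib.OneException
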