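import Cfsg.Agent.Lib.OneException.Frobenius

/-!
A transitive abelian action on an abelian normal subgroup makes it the additive group of a field.
-/

set_option autoImplicit false
set_option linter.unusedSectionVars false
set_option linter.style.haveILetI false

open scoped commutatorElement

namespace CfsgLib.OneException

universe u

variable {Q : Type u} [Group Q] [Finite Q]

/-- The derived subgroup is self-centralizing at each of its nontrivial elements. -/
theorem centralizer_eq_commutator (g : Q) (hg : g ∈ commutator Q) (hg1 : g ≠ 1)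
    (hcls : ∀ y ∈ commutator Q, y ≠ 1 → IsConj g y)
    (hab : ∀ a ∈ commutator Q, ∀ b ∈ commutator Q, a * b = b * a)
    (hcent : Subgroup.center Q ≤ commutator Q)
    (h2 : ∃ a ∈ commutator Q, a ≠ 1 ∧ a ≠ g) :
    Subgroup.centralizer ({g} : Set Q) = commutator Q := by
  set N := commutator Q with hN
  set D := Subgroup.centralizer ({g} : Set Q) with hD
  have hcm : ∀ a b : Q, ⁅a, b⁆ ∈ N := fun a b =>
    Subgroup.commutator_mem_commutator (Subgroup.mem_top a) (Subgroup.mem_top b)
  have hND : N ≤ D := fun x hx => Subgroup.mem_centralizer_singleton_iff.mpr (hab x hx g hg)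
  have hDN : ∀ x ∈ D, ∀ y ∈ N, x * y = y * x := by
    intro x hx y hy
    rcases eq_or_ne y 1 with rfl | hy1
    · simp
    obtain ⟨c, rfl⟩ := isConj_iff.mp (hcls y hy hy1)
    have h1 : c⁻¹ * x * c ∈ D := by
      have e : c⁻¹ * x * c = ⁅c⁻¹, x⁆ * x := by simp only [commutatorElement_def]; group
      rw [e]; exact mul_mem (hND (hcm _ _)) hx
    rw [hD, Subgroup.mem_centralizer_singleton_iff] at h1
    calc x * (c * g * c⁻¹) = c * (c⁻¹ * x * c * g) * c⁻¹ := by group
      _ = c * (g * (c⁻¹ * x * c)) * c⁻¹ := by rw [h1]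
      _ = c * g * c⁻¹ * x := by group
  obtain ⟨a, ha, ha1, hag⟩ := h2
  obtain ⟨h, hh⟩ := isConj_iff.mp (hcls a ha ha1)
  have hhD : h ∉ D := by
    intro e
    rw [hD, Subgroup.mem_centralizer_singleton_iff] at e
    exact hag (by rw [← hh, e]; group)
  have hfix : ∀ y ∈ N, h * y = y * h → y = 1 := by
    intro y hy e
    by_contra hy1
    obtain ⟨c, hc⟩ := isConj_iff.mp (hcls y hy hy1)
    apply hhD
    have h1 : c⁻¹ * h * c ∈ D := by
      rw [hD, Subgroup.mem_centralizer_singleton_iff]
      calc c⁻¹ * h * c * g = c⁻¹ * (h * (c * g * c⁻¹)) * c := by group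
        _ = c⁻¹ * (h * y) * c := by rw [hc]
        _ = c⁻¹ * (y * h) * c := by rw [e]
        _ = c⁻¹ * (c * g * c⁻¹ * h) * c := by rw [hc]
        _ = g * (c⁻¹ * h * c) := by group
    have e2 : h = ⁅c, c⁻¹ * h * c⁆ * (c⁻¹ * h * c) := by simp only [commutatorElement_def]; group
    rw [e2]; exact mul_mem (hND (hcm _ _)) h1
  have hker : ∀ z ∈ D, z * h = h * z → z ∈ Subgroup.center Q := by
    intro z hz e
    rw [Subgroup.mem_center_iff]
    intro x
    have hzh : h * z * h⁻¹ = z := by rw [← e]; group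
    have hzN : z * ⁅h, x⁆ = ⁅h, x⁆ * z := hDN z hz _ (hcm h x)
    have h1 : h * ⁅z, x⁆ = ⁅z, x⁆ * h := by
      have e1 : h * ⁅z, x⁆ * h⁻¹ = ⁅h * z * h⁻¹, ⁅h, x⁆ * x⁆ := by
        simp only [commutatorElement_def]; group
      have e2 : ⁅z, ⁅h, x⁆ * x⁆ = ⁅z, x⁆ := by
        rw [show ⁅z, ⁅h, x⁆ * x⁆ = (z * ⁅h, x⁆) * x * z⁻¹ * x⁻¹ * ⁅h, x⁆⁻¹ by
          rw [commutatorElement_def z]; group, hzN,
          show ⁅h, x⁆ * z * x * z⁻¹ * x⁻¹ * ⁅h, x⁆⁻¹ = ⁅h, x⁆ * ⁅z, x⁆ * ⁅h, x⁆⁻¹ by
            rw [commutatorElement_def z x]; group,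
          hab _ (hcm h x) _ (hcm z x), mul_inv_cancel_right]
      rw [hzh, e2] at e1
      calc h * ⁅z, x⁆ = h * ⁅z, x⁆ * h⁻¹ * h := by group
        _ = ⁅z, x⁆ * h := by rw [e1]
    exact (commutatorElement_eq_one_iff_mul_comm.mp (hfix _ (hcm z x) h1)).symm
  let f : D →* Q := MonoidHom.mk' (fun c => ⁅(c : Q), h⁆) fun c d => by
    simp only [Subgroup.coe_mul]
    rw [show ⁅(c : Q) * d, h⁆ = c * ⁅(d : Q), h⁆ * (c : Q)⁻¹ * ⁅(c : Q), h⁆ by
      simp only [commutatorElement_def]; group, hDN c c.2 _ (hcm _ _), mul_inv_cancel_right,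
      hab _ (hcm _ _) _ (hcm _ _)]
  have hinj : Function.Injective f := by
    rw [← MonoidHom.ker_eq_bot_iff, Subgroup.eq_bot_iff_forall]
    intro z hz
    have h1 := commutatorElement_eq_one_iff_mul_comm.mp (MonoidHom.mem_ker.mp hz)
    exact Subtype.ext (hfix _ (hcent (hker z z.2 h1)) h1.symm)
  refine (Subgroup.eq_of_le_of_card_ge hND ?_).symm
  exact Nat.card_le_card_of_injective (fun c => (⟨f c, hcm _ _⟩ : N))
    fun c d e => hinj (congrArg Subtype.val e)

/-- The field structure. -/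
theorem exists_field (g : Q) (hg : g ∈ commutator Q) (hg1 : g ≠ 1)
    (hcls : ∀ y ∈ commutator Q, y ≠ 1 → IsConj g y)
    (hab : ∀ a ∈ commutator Q, ∀ b ∈ commutator Q, a * b = b * a) {p : ℕ} [Fact p.Prime]
    (hexp : ∀ a ∈ commutator Q, a ^ p = 1) :
    ∃ (F : Type u) (_ : Field F) (_ : Fintype F)
      (_ : CharP F p) (a : ℕ) (θ : F) (e : F → Q) (h : Q), Gen F p a θ ∧
        Nat.card (commutator Q) = p ^ a ∧ (∀ x, e x ∈ commutator Q) ∧
        (∀ y ∈ commutator Q, ∃ x, e x = y) ∧ (∀ x x', e (x + x') = e x * e x') ∧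
        ∀ x, e (θ * x) = h * e x * h⁻¹ := by
  classical
  haveI := Fintype.ofFinite Q
  set N := commutator Q with hN
  letI : CommGroup N :=
    { (inferInstance : Group N) with mul_comm := fun a b => Subtype.ext (hab a a.2 b b.2) }
  let act : Q → AddMonoid.End (Additive N) := fun x =>
    MonoidHom.toAdditive (MonoidHom.mk' (fun n : N =>
      (⟨x * n * x⁻¹, Subgroup.Normal.conj_mem inferInstance _ n.2 x⟩ : N))
      fun n n' => Subtype.ext (conj_mul.symm))
  have hact : ∀ (x : Q) (n : Additive N),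
      ((Additive.toMul ((act x) n) : N) : Q) = x * (Additive.toMul n : N) * x⁻¹ := fun _ _ => rfl
  have hcomm : ∀ x y : Q, act x * act y = act y * act x := by
    intro x y
    refine AddMonoidHom.ext fun n => Additive.toMul.injective (Subtype.ext ?_)
    show x * (y * ((Additive.toMul n : N) : Q) * y⁻¹) * x⁻¹ =
      y * (x * ((Additive.toMul n : N) : Q) * x⁻¹) * y⁻¹
    have h1 : ⁅x, y⁆ * (y * (x * ((Additive.toMul n : N) : Q) * x⁻¹) * y⁻¹) =
        (y * (x * ((Additive.toMul n : N) : Q) * x⁻¹) * y⁻¹) * ⁅x, y⁆ :=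
      hab _ (Subgroup.commutator_mem_commutator (Subgroup.mem_top x) (Subgroup.mem_top y)) _
        (Subgroup.Normal.conj_mem inferInstance _
          (Subgroup.Normal.conj_mem inferInstance _ (Additive.toMul n).2 x) y)
    calc x * (y * ((Additive.toMul n : N) : Q) * y⁻¹) * x⁻¹
        = ⁅x, y⁆ * (y * (x * ((Additive.toMul n : N) : Q) * x⁻¹) * y⁻¹) * ⁅x, y⁆⁻¹ := by
          simp only [commutatorElement_def]; group
      _ = _ := by rw [h1, mul_inv_cancel_right]
  set S := Subring.closure (Set.range act) with hS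
  have h1 : ∀ r ∈ S, ∀ x, r * act x = act x * r := by
    intro r hr x
    induction hr using Subring.closure_induction with
    | mem r hr => obtain ⟨y, rfl⟩ := hr; exact hcomm y x
    | zero => rw [zero_mul, mul_zero]
    | one => rw [one_mul, mul_one]
    | add r s _ _ h h' => rw [add_mul, mul_add, h, h']
    | neg r _ h => exact (Commute.neg_left (show Commute r (act x) from h)).eq
    | mul r s _ _ h h' => rw [mul_assoc, h', ← mul_assoc, h, mul_assoc]
  have h2 : ∀ r ∈ S, ∀ s ∈ S, r * s = s * r := by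
    intro r hr s hs
    induction hs using Subring.closure_induction with
    | mem s hs => obtain ⟨y, rfl⟩ := hs; exact h1 r hr y
    | zero => rw [zero_mul, mul_zero]
    | one => rw [one_mul, mul_one]
    | add s t _ _ h h' => rw [add_mul, mul_add, h, h']
    | neg s _ h => exact (Commute.neg_right (show Commute r s from h)).eq
    | mul s t _ _ h h' => rw [← mul_assoc, h, mul_assoc, h', ← mul_assoc]
  let g₀ : Additive N := Additive.ofMul ⟨g, hg⟩
  have hreach : ∀ n : Additive N, n ≠ 0 → ∃ x, act x g₀ = n := by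
    intro n hn
    obtain ⟨x, hx⟩ := isConj_iff.mp (hcls _ (Additive.toMul n).2 (fun e => hn (Additive.toMul.injective (Subtype.ext e))))
    exact ⟨x, Additive.toMul.injective (Subtype.ext hx)⟩
  have hzero : ∀ r ∈ S, r g₀ = 0 → r = 0 := by
    intro r hr h0
    refine AddMonoidHom.ext fun n => ?_
    rcases eq_or_ne n 0 with rfl | hn
    · exact map_zero r
    obtain ⟨x, rfl⟩ := hreach n hn
    show (r * act x) g₀ = 0
    rw [h1 r hr x]
    show act x (r g₀) = 0
    rw [h0, map_zero]
  haveI : Finite (AddMonoid.End (Additive N)) :=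
    Finite.of_injective (fun r : AddMonoid.End (Additive N) => (r : Additive N → Additive N))
      DFunLike.coe_injective
  letI : CommRing S :=
    { (inferInstance : Ring S) with mul_comm := fun r s => Subtype.ext (h2 r r.2 s s.2) }
  haveI : Nontrivial S := ⟨⟨1, 0, fun e => hg1 (congrArg (fun n : Additive N => ((Additive.toMul n : N) : Q))
    (DFunLike.congr_fun (congrArg Subtype.val e) g₀))⟩⟩
  haveI : IsDomain S := by
    haveI : NoZeroDivisors S := ⟨fun {r s} e => by
      by_cases hs : (s : AddMonoid.End (Additive N)) g₀ = 0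
      · exact Or.inr (Subtype.ext (hzero _ s.2 hs))
      · left
        refine Subtype.ext (hzero _ r.2 ?_)
        obtain ⟨x, hx⟩ := hreach _ hs
        have h3 : ((r : AddMonoid.End (Additive N)) * act x) g₀ = 0 := by
          show (r : AddMonoid.End (Additive N)) (act x g₀) = 0
          rw [hx]
          exact DFunLike.congr_fun (congrArg Subtype.val e) g₀
        rw [h1 _ r.2 x] at h3
        have h4 := congrArg (fun n => act x⁻¹ n) h3
        simp only [map_zero] at h4
        have h5 : ∀ n, act x⁻¹ (act x n) = n := fun n => Additive.toMul.injective (Subtype.ext (by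
          show x⁻¹ * (x * ((Additive.toMul n : N) : Q) * x⁻¹) * x⁻¹⁻¹ = _
          group))
        exact (h5 _).symm.trans h4⟩
    exact NoZeroDivisors.to_isDomain S
  haveI : Fintype S := Fintype.ofFinite S
  letI : Field S := Fintype.fieldOfDomain S
  let e : S → Q := fun r => ((Additive.toMul ((r : AddMonoid.End (Additive N)) g₀) : N) : Q)
  have hsurj : ∀ y ∈ N, ∃ r, e r = y := by
    intro y hy
    rcases eq_or_ne y 1 with rfl | hy1
    · exact ⟨0, rfl⟩
    obtain ⟨x, hx⟩ := isConj_iff.mp (hcls y hy hy1)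
    exact ⟨⟨act x, Subring.subset_closure ⟨x, rfl⟩⟩, hx⟩
  have hadd : ∀ r s, e (r + s) = e r * e s := fun r s => rfl
  have hbij : Function.Bijective fun r : S => (⟨e r, (Additive.toMul _ : N).2⟩ : N) := by
    refine ⟨fun r s h => ?_, fun n => ?_⟩
    · have h3 : ((r - s : S) : AddMonoid.End (Additive N)) g₀ = 0 := by
        show (r : AddMonoid.End (Additive N)) g₀ - (s : AddMonoid.End (Additive N)) g₀ = 0
        rw [sub_eq_zero]
        exact Additive.toMul.injective h
      exact sub_eq_zero.mp (Subtype.ext (hzero _ (r - s).2 h3))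
    · obtain ⟨r, hr⟩ := hsurj n n.2
      exact ⟨r, Subtype.ext hr⟩
  obtain ⟨a, ha⟩ : ∃ a, Nat.card N = p ^ a :=
    IsPGroup.iff_card.mp fun n => ⟨1, Subtype.ext (by rw [pow_one]; exact hexp _ n.2)⟩
  have hcard : Fintype.card S = p ^ a := by
    rw [← ha, ← Nat.card_eq_fintype_card, Nat.card_eq_of_bijective _ hbij]
  have hp0 : ((p : ℕ) : S) = 0 := by
    have h4 : ∀ n : ℕ, e (n : S) = g ^ n := by
      intro n
      induction n with
      | zero => rw [Nat.cast_zero, pow_zero]; rfl
      | succ n ih => rw [Nat.cast_succ, hadd, ih, pow_succ]; rfl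
    refine hbij.1 (Subtype.ext ?_)
    show e _ = e 0
    rw [h4, hexp g hg]
    rfl
  haveI : CharP S p := (CharP.charP_iff_prime_eq_zero (Fact.out : p.Prime)).mpr hp0
  obtain ⟨u, hu⟩ := IsCyclic.exists_generator (α := Sˣ)
  obtain ⟨h, hh⟩ := isConj_iff.mp (hcls (e u) (Additive.toMul _ : N).2 fun e1 => u.ne_zero
    (hbij.1 (Subtype.ext (e1.trans (rfl : (1 : Q) = e 0)))))
  refine ⟨S, inferInstance, inferInstance, inferInstance, a, u, e, h, ⟨hcard, ?_⟩, ha,
    fun x => (Additive.toMul _ : N).2, hsurj, hadd, fun x => ?_⟩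
  · rw [orderOf_units, orderOf_eq_card_of_forall_mem_zpowers hu, Nat.card_eq_fintype_card,
      Fintype.card_units, hcard]
  · have hu' : (u : S) = ⟨act h, Subring.subset_closure ⟨h, rfl⟩⟩ :=
      hbij.1 (Subtype.ext hh.symm)
    rw [hu']
    rfl

end CfsgLib.OneException
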