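import Cfsg.Agent.Lib.OneException.Two
import Cfsg.Agent.Lib.OneException.Field
import Cfsg.Agent.Lib.OddLocal.PartnerBasics

/-!
The case where the derived subgroup has more than two elements modulo the kernel.
-/

set_option autoImplicit false
set_option linter.unusedSectionVars false
set_option linter.style.haveILetI false

open scoped commutatorElement
open Cfsg

namespace CfsgLib.OneException

variable {G : Type*} [Group G] [Finite G] {K : Subgroup G} {g : G}

theorem sylow_le_of_index {p : ℕ} [Fact p.Prime] (N : Subgroup G) [N.Normal]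
    (hN : ¬ p ∣ N.index) (S : Sylow p G) : (S : Subgroup G) ≤ N := by
  intro x hx
  obtain ⟨e, he⟩ := S.2 ⟨x, hx⟩
  have he' : x ^ p ^ e = 1 := congrArg Subtype.val he
  have hcop : (N.index).Coprime (orderOf x) :=
    Nat.Coprime.coprime_dvd_right (orderOf_dvd_of_pow_eq_one he')
      (Nat.Coprime.pow_right e (Nat.Coprime.symm ((Fact.out : p.Prime).coprime_iff_not_dvd.mpr hN)))
  obtain ⟨u, hu⟩ := exists_pow_eq_self_of_coprime hcop
  rw [← hu]
  exact pow_mem (N.pow_index_mem x) u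

/-- The group of `Q = G / K` inherits the class hypothesis. -/
theorem Cls.quotient (h : Cls K g) :
    haveI := h.normal
    (∀ y ∈ commutator (G ⧸ K), y ≠ 1 → IsConj (g : G ⧸ K) y) ∧
      (∀ a ∈ commutator (G ⧸ K), ∀ b ∈ commutator (G ⧸ K), a * b = b * a) ∧
      (commutator G).map (QuotientGroup.mk' K) = commutator (G ⧸ K) := by
  haveI := h.normal
  have hmap : (commutator G).map (QuotientGroup.mk' K) = commutator (G ⧸ K) := by
    rw [commutator_def, commutator_def, Subgroup.map_commutator,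
      Subgroup.map_top_of_surjective _ (QuotientGroup.mk'_surjective K)]
  refine ⟨fun y hy hy1 => ?_, fun a ha b hb => ?_, hmap⟩
  · rw [← hmap] at hy
    obtain ⟨y, hy, rfl⟩ := hy
    exact (QuotientGroup.mk' K).map_isConj
      (h.cls y hy fun e => hy1 ((QuotientGroup.eq_one_iff y).mpr e))
  · rw [← hmap] at ha hb
    obtain ⟨a, ha, rfl⟩ := ha
    obtain ⟨b, hb, rfl⟩ := hb
    rw [← commutatorElement_eq_one_iff_mul_comm, ← map_commutatorElement]
    exact (QuotientGroup.eq_one_iff _).mpr (h.abelian a ha b hb)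

/-- The numerical facts. -/
theorem Cls.card_centralizer (h : Cls K g) {n : ℕ}
    (hn : haveI := h.normal; Nat.card ((commutator G).map (QuotientGroup.mk' K)) = n)
    (h2 : ∃ a ∈ commutator G, a ∉ K ∧ g⁻¹ * a ∉ K) :
    (commutator G).index = n - 1 ∧ Nat.card (Subgroup.centralizer ({g} : Set G)) = n ∧
      2 ≤ n := by
  classical
  haveI := h.normal
  obtain ⟨hcls, hab, hmap⟩ := h.quotient
  obtain ⟨a, ha, haK, hag⟩ := h2
  have hg1 : (g : G ⧸ K) ≠ 1 := fun e => h.notMem ((QuotientGroup.eq_one_iff g).mp e)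
  have hgN : (g : G ⧸ K) ∈ commutator (G ⧸ K) := hmap ▸ Subgroup.mem_map_of_mem _ h.mem
  have hcent : Subgroup.center (G ⧸ K) ≤ commutator (G ⧸ K) := by
    intro z hz
    obtain ⟨z, rfl⟩ := QuotientGroup.mk_surjective z
    refine hmap ▸ Subgroup.mem_map_of_mem _ (h.cent z fun x => ?_)
    rw [← QuotientGroup.eq_one_iff, ← QuotientGroup.mk'_apply, map_commutatorElement,
      commutatorElement_eq_one_iff_mul_comm]
    exact ((Subgroup.mem_center_iff.mp hz) (x : G ⧸ K)).symm
  have hC := centralizer_eq_commutator (g : G ⧸ K) hgN hg1 hcls hab hcent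
    ⟨(a : G ⧸ K), hmap ▸ Subgroup.mem_map_of_mem _ ha,
      fun e => haK ((QuotientGroup.eq_one_iff a).mp e),
      fun e => hag (QuotientGroup.eq.mp e.symm)⟩
  have hn' : Nat.card (commutator (G ⧸ K)) = n := hmap ▸ hn
  have hn2 : 2 ≤ n := by
    rw [← hn']
    haveI : Nontrivial (commutator (G ⧸ K)) :=
      ⟨⟨⟨_, hgN⟩, 1, fun e => hg1 (congrArg Subtype.val e)⟩⟩
    exact Finite.one_lt_card
  have h1 := card_class_mul (g : G ⧸ K) ((commutator (G ⧸ K) : Set (G ⧸ K)) \ {1}) fun y =>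
    ⟨fun hy => hcls y hy.1 hy.2, fun hy => by
      obtain ⟨c, rfl⟩ := isConj_iff.mp hy
      refine ⟨Subgroup.Normal.conj_mem inferInstance _ hgN c, fun e => hg1 ?_⟩
      rw [Set.mem_singleton_iff, conj_eq_one_iff] at e
      exact e⟩
  rw [hC, Nat.card_coe_set_eq, Set.ncard_sdiff (Set.singleton_subset_iff.mpr (one_mem _)),
    Set.ncard_singleton, ← Nat.card_coe_set_eq, ← Subgroup.index_mul_card (commutator (G ⧸ K))]
    at h1
  have hindex : (commutator G).index = n - 1 := by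
    have h3 := Nat.eq_of_mul_eq_mul_right Nat.card_pos h1
    rw [← hn', ← Subgroup.index_map_eq (f := QuotientGroup.mk' K) (commutator G)
      (QuotientGroup.mk'_surjective K) (by rw [QuotientGroup.ker_mk']; exact h.le), hmap]
    exact h3.symm
  refine ⟨hindex, ?_, hn2⟩
  have h3 := h.card_class
  rw [← Subgroup.index_mul_card (commutator G), hindex, h.card_commutator, hn] at h3
  have h4 : n * Nat.card K - Nat.card K = (n - 1) * Nat.card K := (Nat.sub_one_mul n _).symm
  rw [h4, mul_assoc, mul_comm n] at h3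
  exact Nat.eq_of_mul_eq_mul_left Nat.card_pos (Nat.eq_of_mul_eq_mul_left (by omega) h3)

/-- The situation after the reductions: data for the last steps. -/
theorem Cls.solvable_big (h : Cls K g) (h2 : ∃ a ∈ commutator G, a ∉ K ∧ g⁻¹ * a ∉ K) :
    Group.IsSolvable G := by
  classical
  haveI := h.normal
  obtain ⟨p, hp, hpow, hpel⟩ := h.exists_prime
  haveI := Fact.mk hp
  have hab := h.abelian
  set n := Nat.card ((commutator G).map (QuotientGroup.mk' K)) with hn
  obtain ⟨hidx, hC, hn2⟩ := h.card_centralizer hn.symm h2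
  have hPN : IsPGroup p ((commutator G).map (QuotientGroup.mk' K)) := by
    rintro ⟨q, y, hy, rfl⟩
    exact ⟨1, Subtype.ext (by
      rw [pow_one, SubmonoidClass.coe_pow, Subgroup.coe_one, ← map_pow]
      exact (QuotientGroup.eq_one_iff _).mpr (hpow y hy))⟩
  obtain ⟨a, ha⟩ := IsPGroup.iff_card.mp hPN
  rw [← hn] at ha
  have ha0 : 0 < a := by
    rcases Nat.eq_zero_or_pos a with rfl | h0
    · rw [pow_zero] at ha; omega
    · exact h0
  have hpidx : ¬ p ∣ (commutator G).index := by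
    rw [hidx, ha]
    intro e
    have h1 : p ∣ p ^ a := dvd_pow_self p ha0.ne'
    have h3 : p ∣ p ^ a - (p ^ a - 1) := Nat.dvd_sub h1 e
    rw [show p ^ a - (p ^ a - 1) = 1 by omega] at h3
    exact hp.ne_one (Nat.dvd_one.mp h3)
  obtain ⟨S⟩ := (inferInstance : Nonempty (Sylow p G))
  have hSN := sylow_le_of_index (commutator G) hpidx S
  have hmapS : (S : Subgroup G).map (QuotientGroup.mk' K) =
      (commutator G).map (QuotientGroup.mk' K) := by
    refine le_antisymm (Subgroup.map_mono hSN) ?_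
    rintro _ ⟨y, hy, rfl⟩
    by_cases hyK : y ∈ K
    · exact ⟨1, one_mem _, by rw [map_one]; exact ((QuotientGroup.eq_one_iff y).mpr hyK).symm⟩
    have hzp : IsPGroup p (Subgroup.zpowers y) := by
      rintro ⟨_, j, rfl⟩
      obtain ⟨e, he⟩ := hpel y hy hyK
      exact ⟨e, Subtype.ext (by
        show (y ^ j) ^ p ^ e = 1
        rw [← zpow_natCast, ← zpow_mul, mul_comm, zpow_mul, zpow_natCast, he, one_zpow])⟩
    obtain ⟨S₁, hS₁⟩ := hzp.exists_le_sylow
    let S' := S₁.subtype (sylow_le_of_index (commutator G) hpidx S₁)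
    let S'' := S.subtype hSN
    obtain ⟨c, hc⟩ := MulAction.exists_smul_eq (commutator G) S' S''
    have hmem : (c : G) * y * (c : G)⁻¹ ∈ (S : Subgroup G) := by
      have h1 : (c : commutator G) * ⟨y, hy⟩ * c⁻¹ ∈ (S'' : Subgroup (commutator G)) := by
        rw [← hc, Sylow.coe_subgroup_smul]
        exact ⟨⟨y, hy⟩, hS₁ (Subgroup.mem_zpowers y), rfl⟩
      exact h1
    refine ⟨_, hmem, QuotientGroup.eq.mpr ?_⟩
    have := h.abelian (c : G) c.2 y⁻¹ (inv_mem hy)
    rw [show ((c : G) * y * (c : G)⁻¹)⁻¹ * y = ⁅(c : G), y⁻¹⁆ by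
      simp only [commutatorElement_def]; group]
    exact this
  set P0 := (S : Subgroup G) ⊓ K with hP0
  have hScard : Nat.card S = n * Nat.card P0 := by
    rw [← card_map_mk_mul K (S : Subgroup G), hmapS]
  -- centralizers of elements outside `K`
  have hCy : ∀ y ∈ commutator G, y ∉ K → Nat.card (Subgroup.centralizer ({y} : Set G)) = n := by
    intro y hy hyK
    obtain ⟨c, rfl⟩ := isConj_iff.mp (h.cls y hy hyK)
    rw [← hC, ← Subgroup.card_map_of_injective (K := Subgroup.centralizer ({g} : Set G))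
      (f := (MulAut.conj c).toMonoidHom) (fun u v e => (MulAut.conj c).injective e)]
    congr 1
    refine congrArg (fun H : Subgroup G => ↥H) (Subgroup.ext fun x => ⟨fun hx => ?_, ?_⟩)
    · rw [Subgroup.mem_centralizer_singleton_iff] at hx
      refine ⟨c⁻¹ * x * c, ?_, by simp [mul_assoc]⟩
      rw [SetLike.mem_coe, Subgroup.mem_centralizer_singleton_iff]
      calc c⁻¹ * x * c * g = c⁻¹ * (x * (c * g * c⁻¹)) * c := by group
        _ = c⁻¹ * (c * g * c⁻¹ * x) * c := by rw [hx]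
        _ = g * (c⁻¹ * x * c) := by group
    · rintro ⟨x, hx, rfl⟩
      rw [SetLike.mem_coe, Subgroup.mem_centralizer_singleton_iff] at hx
      rw [Subgroup.mem_centralizer_singleton_iff]
      show c * x * c⁻¹ * (c * g * c⁻¹) = c * g * c⁻¹ * (c * x * c⁻¹)
      calc c * x * c⁻¹ * (c * g * c⁻¹) = c * (x * g) * c⁻¹ := by group
        _ = c * (g * x) * c⁻¹ := by rw [hx]
        _ = _ := by group
  have hsur : ∀ y ∈ (S : Subgroup G), y ∉ K → ∀ k ∈ P0, ∃ s ∈ (S : Subgroup G), ⁅s, y⁆ = k := by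
    intro y hy hyK
    refine exists_commutator_eq _ _ y (fun s hs => Subgroup.mem_inf.mpr
      ⟨mul_mem (mul_mem (mul_mem hs hy) (inv_mem hs)) (inv_mem hy), hab s (hSN hs) y (hSN hy)⟩) ?_
    rw [hScard, mul_comm n]
    refine Nat.mul_le_mul_left _ ?_
    rw [← hCy y (hSN hy) hyK]
    exact Subgroup.card_le_of_le inf_le_right
  obtain ⟨y₀, hy₀, hy₀K⟩ : ∃ y ∈ (S : Subgroup G), y ∉ K := by
    have hg : (g : G ⧸ K) ∈ (S : Subgroup G).map (QuotientGroup.mk' K) :=
      hmapS ▸ Subgroup.mem_map_of_mem _ h.mem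
    obtain ⟨y, hy, e⟩ := hg
    exact ⟨y, hy, fun hyK => h.notMem ((QuotientGroup.eq_one_iff g).mp
      (e.symm.trans ((QuotientGroup.eq_one_iff y).mpr hyK)))⟩
  -- `S ∩ K` is the derived subgroup of `S`
  have hD : ∀ x : ↥(S : Subgroup G), x ∈ commutator ↥(S : Subgroup G) ↔ (x : G) ∈ K := by
    intro x
    refine ⟨fun hx => ?_, fun hx => ?_⟩
    · have h1 : commutator ↥(S : Subgroup G) ≤ K.subgroupOf S := by
        rw [commutator_def]
        exact Subgroup.commutator_le.mpr fun u _ v _ => hab (u : G) (hSN u.2) (v : G) (hSN v.2)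
      exact h1 hx
    · obtain ⟨s, hs, e⟩ := hsur y₀ hy₀ hy₀K x (Subgroup.mem_inf.mpr ⟨x.2, hx⟩)
      have h1 : ⁅(⟨s, hs⟩ : ↥(S : Subgroup G)), (⟨y₀, hy₀⟩ : ↥(S : Subgroup G))⁆ = x :=
        Subtype.ext e
      rw [← h1]
      exact Subgroup.commutator_mem_commutator (Subgroup.mem_top _) (Subgroup.mem_top _)
  -- the normal `p`-complement
  obtain ⟨R, hRn, hRK, hRc, hRp⟩ := h.core_of_frattini (S.subtype hSN)
    (MonoidHom.mk' (fun s : ↥(S : Subgroup G) =>
      (⟨⟨(s : G), hSN s.2⟩, s.2⟩ : ↥((S.subtype hSN : Sylow p (commutator G)) : Subgroup (commutator G))))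
      fun _ _ => rfl)
    (fun x => ⟨⟨((x : commutator G) : G), x.2⟩, rfl⟩)
    (fun x hxK hxS => ⟨⟨(x : G), hxS⟩,
      (CfsgLib.PSolvable.commutator_le_frattini S.2).1 ((hD _).mpr hxK), rfl⟩)
  refine solvable_of_core hab hRn hRK hRp ?_
  by_cases hp2 : p = 2
  · subst hp2
    exact CfsgLib.OddOrder.odd_order_solvable (Nat.coprime_two_right.mp hRc)
  have hp3 : 3 ≤ p := by have := hp.two_le; omega
  -- no element outside `K` centralizes a nontrivial element of `R`
  have hfpf : ∀ y ∈ (S : Subgroup G), y ∉ K → ∀ r ∈ R, r * y = y * r → r = 1 := by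
    intro y hy hyK r hr e
    have h1 : orderOf r ∣ n := hCy y (hSN hy) hyK ▸
      Subgroup.orderOf_dvd_natCard _ (Subgroup.mem_centralizer_singleton_iff.mpr e)
    have h3 := Nat.dvd_gcd (Subgroup.orderOf_dvd_natCard R hr) (h1.trans ha.dvd)
    rw [(Nat.Coprime.pow_right a hRc).gcd_eq_one, Nat.dvd_one, orderOf_eq_one_iff] at h3
    exact h3
  -- the field structure and coordinates on `S`
  obtain ⟨hcls, habQ, hmap⟩ := h.quotient
  have hexpQ : ∀ q ∈ commutator (G ⧸ K), q ^ p = 1 := by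
    intro q hq
    rw [← hmap] at hq
    obtain ⟨y, hy, rfl⟩ := hq
    rw [← map_pow]
    exact (QuotientGroup.eq_one_iff _).mpr (hpow y hy)
  obtain ⟨F, _, _, _, a', θ, e, hq, hgen, hcardQ, heN, hesur, headd, htw⟩ :=
    exists_field (g : G ⧸ K) (hmap ▸ Subgroup.mem_map_of_mem _ h.mem)
      (fun e => h.notMem ((QuotientGroup.eq_one_iff g).mp e)) hcls habQ hexpQ
  obtain rfl : a = a' := by
    refine Nat.pow_right_injective hp.two_le ?_
    show p ^ a = p ^ a'
    rw [← hcardQ, ← ha, hn, hmap]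
  have hlift : ∀ x, ∃ s : ↥(S : Subgroup G), ((s : G) : G ⧸ K) = e x := by
    intro x
    have h1 : e x ∈ (S : Subgroup G).map (QuotientGroup.mk' K) := by
      rw [hmapS, hmap]; exact heN x
    obtain ⟨s, hs, es⟩ := h1
    exact ⟨⟨s, hs⟩, es⟩
  choose s hs using hlift
  obtain ⟨h₀, rfl⟩ := QuotientGroup.mk_surjective hq
  obtain ⟨σ, hσ, c, hc, rfl⟩ : ∃ σ ∈ Subgroup.normalizer ((S : Subgroup G) : Set G),
      ∃ c ∈ commutator G, σ * c = h₀ := by
    have h1 : h₀ ∈ Subgroup.normalizer ((S : Subgroup G) : Set G) ⊔ commutator G := by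
      rw [show Subgroup.normalizer ((S : Subgroup G) : Set G) ⊔ commutator G = ⊤ from
        Sylow.normalizer_sup_eq_top' S hSN]
      exact Subgroup.mem_top _
    obtain ⟨σ, hσ, c, hc, e⟩ := Subgroup.mem_sup_of_normal_right.mp h1
    exact ⟨σ, hσ, c, hc, e⟩
  let φ : ↥(S : Subgroup G) ≃* ↥(S : Subgroup G) :=
    Subgroup.normalizerMonoidHom (S : Subgroup G) ⟨σ, hσ⟩
  have hDq : ∀ x : ↥(S : Subgroup G),
      x ∈ commutator ↥(S : Subgroup G) ↔ ((x : G) : G ⧸ K) = 1 := fun x => by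
    rw [hD, QuotientGroup.eq_one_iff]
  have hcoords : Coords ↥(S : Subgroup G) θ s φ :=
    { add := fun x y => (hDq _).mpr (by
        show (((s (x + y) : G)⁻¹ * ((s x : G) * (s y : G)) : G) : G ⧸ K) = 1
        rw [QuotientGroup.mk_mul, QuotientGroup.mk_inv, QuotientGroup.mk_mul, hs, hs, hs, headd,
          inv_mul_cancel])
      surj := fun t => by
        obtain ⟨x, hx⟩ := hesur ((t : G) : G ⧸ K)
          (hmap ▸ Subgroup.mem_map_of_mem _ (hSN t.2))
        refine ⟨x, (hDq _).mpr ?_⟩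
        show (((s x : G)⁻¹ * (t : G) : G) : G ⧸ K) = 1
        rw [QuotientGroup.mk_mul, QuotientGroup.mk_inv, hs, hx, inv_mul_cancel]
      twist := fun x => (hDq _).mpr (by
        show (((s (θ * x) : G)⁻¹ * (σ * (s x : G) * σ⁻¹) : G) : G ⧸ K) = 1
        rw [QuotientGroup.mk_mul, QuotientGroup.mk_inv, QuotientGroup.mk_mul, QuotientGroup.mk_mul,
          hs, hs, htw, inv_mul_eq_one, QuotientGroup.mk_inv, QuotientGroup.mk_mul]
        have h1 : (c : G ⧸ K) * e x = e x * (c : G ⧸ K) :=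
          habQ _ (hmap ▸ Subgroup.mem_map_of_mem _ hc) _ (heN x)
        rw [mul_inv_rev, show (σ : G ⧸ K) * (c : G ⧸ K) * e x * ((c : G ⧸ K)⁻¹ * (σ : G ⧸ K)⁻¹) =
          (σ : G ⧸ K) * ((c : G ⧸ K) * e x) * (c : G ⧸ K)⁻¹ * (σ : G ⧸ K)⁻¹ by group, h1]
        group)
      cls := fun y hy d hd => by
        obtain ⟨t, ht, et⟩ := hsur (y : G) y.2 (fun e => hy ((hD y).mpr e)) (d : G)
          (Subgroup.mem_inf.mpr ⟨d.2, (hD d).mp hd⟩)
        exact ⟨⟨t, ht⟩, Subtype.ext et⟩ }
  have hindexS : (commutator ↥(S : Subgroup G)).index = p ^ a := by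
    have h1 : commutator ↥(S : Subgroup G) = K.subgroupOf S :=
      Subgroup.ext fun x => hD x
    rw [h1, ← Nat.mul_right_cancel_iff (Nat.card_pos (α := P0)), ← ha, ← hScard, hP0,
      ← Nat.card_congr (Subgroup.subgroupOfEquivOfLe (inf_le_left : P0 ≤ (S : Subgroup G))).toEquiv,
      Subgroup.inf_subgroupOf_left, Subgroup.index_mul_card]
  obtain ⟨hexp, hcen⟩ := exponent_eq hgen hp3 S.2 hindexS hcoords
  -- Thompson
  have hyp : y₀ ^ p = 1 := congrArg Subtype.val (hexp ⟨y₀, hy₀⟩)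
  have hfix : R ⊓ Subgroup.centralizer ({y₀} : Set G) = ⊥ := by
    rw [eq_bot_iff]
    intro r hr
    obtain ⟨hr, hrc⟩ := Subgroup.mem_inf.mp hr
    exact Subgroup.mem_bot.mpr
      (hfpf y₀ hy₀ hy₀K r hr (Subgroup.mem_centralizer_singleton_iff.mp hrc))
  haveI := CfsgLib.OddLocal.isNilpotent_of_fpf_elem hp hyp
    (by rw [Subgroup.normalizer_eq_top R]; exact Subgroup.mem_top _) hfix
  infer_instance

end CfsgLib.OneException
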