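import Cfsg.Agent.Lib.Char.Table
import Cfsg.Agent.Lib.Char.Kernel
import Cfsg.Agent.Lib.Char.Counting
import Cfsg.Agent.Lib.Char.Central
import Cfsg.Agent.Lib.Char.AbelianQuotient
import Cfsg.Prelude.Def_Blocks

/-!
An element at which all nonlinear irreducible characters but one vanish: the column of that
element determines the exceptional character.
-/

set_option autoImplicit false
set_option linter.style.haveILetI false
set_option linter.unusedSectionVars false

namespace CfsgLib.OneException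

open Cfsg CfsgLib.Char
open scoped ComplexConjugate CfsgLib.Char

variable {G : Type*} [Group G] [Finite G]

theorem charDegree_eq {χ : G → ℂ} {d : ℕ} (h : χ 1 = d) : charDegree χ = d := by
  simp [charDegree, h]

theorem charDegree_ne_one_iff (ψ : IrrCharacter G) :
    charDegree (ψ : G → ℂ) ≠ 1 ↔ (ψ : G → ℂ) 1 ≠ 1 := by
  obtain ⟨d, -, hd⟩ := exists_nat_degree_irr ψ.2
  rw [charDegree_eq hd, hd, Ne, Ne, Nat.cast_eq_one]

/-- The hypotheses on the pair `(g, χ)`. -/
structure Exc (g : G) (χ : IrrCharacter G) : Prop where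
  deg : (χ : G → ℂ) 1 ≠ 1
  ne : (χ : G → ℂ) g ≠ 0
  other : ∀ ψ : IrrCharacter G, (ψ : G → ℂ) 1 ≠ 1 → ψ ≠ χ → (ψ : G → ℂ) g = 0

theorem exists_hom_ne_one {x : G} (hx : x ∉ commutator G) : ∃ f : G →* ℂˣ, f x ≠ 1 := by
  haveI : Finite (Abelianization G) := Finite.of_surjective _ QuotientGroup.mk_surjective
  have hne : Abelianization.of x ≠ 1 := fun e => hx ((QuotientGroup.eq_one_iff x).mp e)
  obtain ⟨f, hf⟩ := CommGroup.exists_apply_ne_one_of_hasEnoughRootsOfUnity (Abelianization G) ℂ hne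
  exact ⟨f.comp Abelianization.of, hf⟩

theorem linear_eq_one_of_mem {ψ : IrrCharacter G} (h1 : (ψ : G → ℂ) 1 = 1) {x : G}
    (hx : x ∈ commutator G) : (ψ : G → ℂ) x = 1 := by
  rw [← linearHom_apply (isCharacter_of_isIrr ψ.2) h1 x,
    MonoidHom.mem_ker.mp (Abelianization.commutator_subset_ker _ hx), Units.val_one]

theorem isIrr_twist (f : G →* ℂˣ) (ψ : IrrCharacter G) :
    IsIrrCharacter G (fun x => (f x : ℂ) * (ψ : G → ℂ) x) := by
  haveI := Fintype.ofFinite G
  exact isIrrCharacter_linear_mul ψ.2 f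

/-- Multiplication by a linear character, as a permutation of the irreducible characters. -/
noncomputable def twist (f : G →* ℂˣ) : Equiv.Perm (IrrCharacter G) where
  toFun ψ := ⟨_, isIrr_twist f ψ⟩
  invFun ψ := ⟨_, isIrr_twist f⁻¹ ψ⟩
  left_inv ψ := Subtype.ext (funext fun x => by
    show (f⁻¹ x : ℂ) * ((f x : ℂ) * (ψ : G → ℂ) x) = _
    rw [MonoidHom.inv_apply, Units.inv_mul_cancel_left])
  right_inv ψ := Subtype.ext (funext fun x => by
    show (f x : ℂ) * ((f⁻¹ x : ℂ) * (ψ : G → ℂ) x) = _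
    rw [MonoidHom.inv_apply, Units.mul_inv_cancel_left])

theorem twist_apply (f : G →* ℂˣ) (ψ : IrrCharacter G) (x : G) :
    (twist f ψ : G → ℂ) x = (f x : ℂ) * (ψ : G → ℂ) x := rfl

theorem twist_deg (f : G →* ℂˣ) (ψ : IrrCharacter G) :
    (twist f ψ : G → ℂ) 1 = (ψ : G → ℂ) 1 := by
  rw [twist_apply, map_one, Units.val_one, one_mul]

namespace Exc

variable {g : G} {χ : IrrCharacter G}

theorem mem_commutator (h : Exc g χ) : g ∈ commutator G := by
  by_contra hg
  obtain ⟨f, hf⟩ := exists_hom_ne_one hg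
  have h1 := h.other (twist f χ) (by rw [twist_deg]; exact h.deg) (fun e => hf (Units.ext (by
    have h2 := congrFun (congrArg Subtype.val e) g
    rw [twist_apply] at h2
    rw [Units.val_one]
    exact (mul_eq_right₀ h.ne).mp h2)))
  rw [twist_apply] at h1
  exact (mul_ne_zero (Units.ne_zero _) h.ne) h1

/-- The linear part of a column. -/
noncomputable def linSum (x : G) : ℂ :=
  open Classical in ∑ ψ : IrrCharacter G, if (ψ : G → ℂ) 1 = 1 then (ψ : G → ℂ) x else 0

theorem linSum_of_notMem {x : G} (hx : x ∉ commutator G) : linSum x = 0 := by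
  classical
  obtain ⟨f, hf⟩ := exists_hom_ne_one hx
  have h1 : linSum x = (f x : ℂ) * linSum x := by
    conv_lhs => rw [linSum, ← Equiv.sum_comp (twist f)]
    rw [linSum, Finset.mul_sum]
    refine Finset.sum_congr rfl fun ψ _ => ?_
    rw [twist_deg]
    split_ifs with hd
    · rw [twist_apply]
    · rw [mul_zero]
  by_contra hne
  exact hf (Units.ext (by rw [Units.val_one]; exact (mul_eq_right₀ hne).mp h1.symm))

theorem linSum_of_mem {x : G} (hx : x ∈ commutator G) :
    linSum x = ((commutator G).index : ℂ) := by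
  classical
  simp only [linSum]
  rw [← card_linear, Nat.card_eq_fintype_card, Fintype.card_subtype, ← Finset.sum_boole]
  refine Finset.sum_congr rfl fun ψ _ => ?_
  by_cases h1 : (ψ : G → ℂ) 1 = 1
  · rw [if_pos h1, if_pos h1, linear_eq_one_of_mem h1 hx]
  · rw [if_neg h1, if_neg h1]

open Classical in
theorem column (h : Exc g χ) (x : G) :
    linSum x + (χ : G → ℂ) x * conj ((χ : G → ℂ) g) =
      if IsConj x g then (Nat.card (Subgroup.centralizer ({g} : Set G)) : ℂ) else 0 := by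
  rw [← column_orthogonality x g]
  have hsplit : ∀ ψ : IrrCharacter G, (ψ : G → ℂ) x * conj ((ψ : G → ℂ) g) =
      (if (ψ : G → ℂ) 1 = 1 then (ψ : G → ℂ) x else 0) +
        (if ψ = χ then (χ : G → ℂ) x * conj ((χ : G → ℂ) g) else 0) := by
    intro ψ
    by_cases h1 : (ψ : G → ℂ) 1 = 1
    · rw [if_pos h1, if_neg (fun e : ψ = χ => h.deg (e ▸ h1)), add_zero,
        linear_eq_one_of_mem h1 h.mem_commutator, map_one, mul_one]
    · rw [if_neg h1, zero_add]
      by_cases h2 : ψ = χ
      · rw [if_pos h2, h2]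
      · rw [if_neg h2, h.other ψ h1 h2, map_zero, mul_zero]
  rw [Finset.sum_congr rfl fun ψ _ => hsplit ψ, Finset.sum_add_distrib, Finset.sum_ite_eq',
    if_pos (Finset.mem_univ χ)]
  rfl

theorem one_ne_g (h : Exc g χ) (hg : g ∉ Subgroup.center G) : ¬ IsConj (1 : G) g := by
  intro e
  obtain ⟨c, hc⟩ := isConj_iff.mp e
  rw [mul_one, mul_inv_cancel] at hc
  exact hg (hc ▸ one_mem _)

theorem value (h : Exc g χ) (hg : g ∉ Subgroup.center G) :
    (χ : G → ℂ) g = -(((commutator G).index : ℂ) / (χ : G → ℂ) 1) := by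
  classical
  obtain ⟨d, hd0, hd⟩ := exists_nat_degree_irr χ.2
  have h1 := h.column 1
  rw [if_neg (h.one_ne_g hg), linSum_of_mem (one_mem _), hd] at h1
  have hd' : ((d : ℕ) : ℂ) ≠ 0 := hd ▸ irr_degree_ne_zero χ.2
  have h2 : conj ((χ : G → ℂ) g) = -(((commutator G).index : ℂ) / (d : ℂ)) := by
    rw [eq_neg_iff_add_eq_zero]
    field_simp
    linear_combination h1
  have h3 := congrArg conj h2
  rw [Complex.conj_conj] at h3
  rw [h3, hd]
  simp

theorem zero_off (h : Exc g χ) (x : G) (hx : x ∉ commutator G) : (χ : G → ℂ) x = 0 := by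
  classical
  have h1 := h.column x
  have hnc : ¬ IsConj x g := by
    intro e
    obtain ⟨c, hc⟩ := isConj_iff.mp e.symm
    exact hx (hc ▸ Subgroup.Normal.conj_mem inferInstance _ h.mem_commutator c)
  rw [if_neg hnc, linSum_of_notMem hx, zero_add] at h1
  exact (mul_eq_zero.mp h1).resolve_right (by simpa using h.ne)

theorem eq_deg (h : Exc g χ) (hg : g ∉ Subgroup.center G) {x : G} (hx : x ∈ commutator G)
    (hnc : ¬ IsConj g x) : (χ : G → ℂ) x = (χ : G → ℂ) 1 := by
  classical
  have h1 := h.column x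
  rw [if_neg (fun e => hnc e.symm), linSum_of_mem hx] at h1
  have h2 := h.column 1
  rw [if_neg (h.one_ne_g hg), linSum_of_mem (one_mem _)] at h2
  have h3 : ((χ : G → ℂ) x - (χ : G → ℂ) 1) * conj ((χ : G → ℂ) g) = 0 := by
    linear_combination h1 - h2
  exact sub_eq_zero.mp ((mul_eq_zero.mp h3).resolve_right (by simpa using h.ne))

theorem value_ne (h : Exc g χ) (hg : g ∉ Subgroup.center G) :
    (χ : G → ℂ) g ≠ (χ : G → ℂ) 1 := by
  obtain ⟨d, hd0, hd⟩ := exists_nat_degree_irr χ.2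
  rw [h.value hg, hd]
  intro e
  have hd' : ((d : ℕ) : ℂ) ≠ 0 := hd ▸ irr_degree_ne_zero χ.2
  field_simp at e
  have e1 : (d : ℂ) * d + ((commutator G).index : ℂ) = 0 := by linear_combination -e
  have e2 : d * d + (commutator G).index = 0 := by exact_mod_cast e1
  exact Subgroup.index_ne_zero_of_finite (H := commutator G) (by omega)

theorem commutator_eq (h : Exc g χ) (hg : g ∉ Subgroup.center G) :
    (commutator G : Set G) =
      {x : G | (χ : G → ℂ) x = (χ : G → ℂ) 1} ∪ {x : G | IsConj g x} := by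
  refine Set.ext fun x => ⟨fun hx => ?_, ?_⟩
  · by_cases hc : IsConj g x
    · exact Or.inr hc
    · exact Or.inl (h.eq_deg hg hx hc)
  · rintro (hx | hx)
    · by_contra hn
      exact irr_degree_ne_zero χ.2 ((h.zero_off x hn) ▸ (Set.mem_setOf_eq ▸ hx)).symm
    · obtain ⟨c, hc⟩ := isConj_iff.mp hx
      exact hc ▸ Subgroup.Normal.conj_mem inferInstance _ h.mem_commutator c

theorem sum_commutator_eq_zero (ψ : IrrCharacter G) (hψ : (ψ : G → ℂ) 1 ≠ 1) [Fintype G]
    [DecidablePred (· ∈ commutator G)] :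
    ∑ x : G with x ∈ commutator G, (ψ : G → ℂ) x = 0 := by
  classical
  have h1 : ∀ μ : IrrCharacter G, (μ : G → ℂ) 1 = 1 →
      ∑ x : G, (μ : G → ℂ) x * conj ((ψ : G → ℂ) x) = 0 := by
    intro μ hμ
    have h2 := classInner_irr_ne μ.2 ψ.2 (fun e => hψ (e ▸ hμ))
    rw [classInner] at h2
    exact (mul_eq_zero.mp h2).resolve_left (by simp)
  have h3 : ∑ x : G, linSum x * conj ((ψ : G → ℂ) x) = 0 := by
    simp only [linSum, Finset.sum_mul]
    rw [Finset.sum_comm]
    refine Finset.sum_eq_zero fun μ _ => ?_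
    by_cases hμ : (μ : G → ℂ) 1 = 1
    · simp only [if_pos hμ]; exact h1 μ hμ
    · simp [if_neg hμ]
  have h4 : ∑ x : G, linSum x * conj ((ψ : G → ℂ) x) =
      ((commutator G).index : ℂ) * conj (∑ x : G with x ∈ commutator G, (ψ : G → ℂ) x) := by
    rw [map_sum, Finset.mul_sum, Finset.sum_filter]
    refine Finset.sum_congr rfl fun x _ => ?_
    split_ifs with hx
    · rw [linSum_of_mem hx]
    · rw [linSum_of_notMem hx, zero_mul]
  rw [h4, mul_eq_zero, Nat.cast_eq_zero] at h3
  exact (map_eq_zero (starRingEnd ℂ)).mp (h3.resolve_left Subgroup.index_ne_zero_of_finite)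

theorem unique (h : Exc g χ) (hg : g ∉ Subgroup.center G) (ψ : IrrCharacter G)
    (hψ : (ψ : G → ℂ) 1 ≠ 1)
    (hker : ∀ x : G, (χ : G → ℂ) x = (χ : G → ℂ) 1 → (ψ : G → ℂ) x = (ψ : G → ℂ) 1) :
    ψ = χ := by
  classical
  by_contra hne
  haveI := Fintype.ofFinite G
  have h1 := sum_commutator_eq_zero ψ hψ
  have h2 : ∀ x ∈ Finset.univ.filter (fun x : G => x ∈ commutator G), (ψ : G → ℂ) x =
      if (χ : G → ℂ) x = (χ : G → ℂ) 1 then (ψ : G → ℂ) 1 else 0 := by
    intro x hx
    rw [Finset.mem_filter] at hx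
    split_ifs with hk
    · exact hker x hk
    · have hc : IsConj g x := by
        by_contra hc
        exact hk (h.eq_deg hg hx.2 hc)
      rw [← eq_of_isConj (isClassFunction_irr ψ) hc, h.other ψ hψ hne]
  rw [Finset.sum_congr rfl h2, ← Finset.sum_filter, Finset.sum_const, nsmul_eq_mul,
    mul_eq_zero, Nat.cast_eq_zero, Finset.card_eq_zero] at h1
  rcases h1 with h1 | h1
  · have : (1 : G) ∈ (∅ : Finset G) := h1 ▸ by simp
    exact Finset.notMem_empty _ this
  · exact irr_degree_ne_zero ψ.2 h1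

theorem central_mem (h : Exc g χ) (z : G)
    (hz : ∀ x : G, (χ : G → ℂ) (z * x * z⁻¹ * x⁻¹) = (χ : G → ℂ) 1) : z ∈ commutator G := by
  by_contra hn
  have h0 := h.zero_off z hn
  obtain ⟨n, ρ, hρ, e⟩ := χ.2
  rw [← e] at hz h0
  have hc : ∀ x : G, ρ z ∘ₗ ρ x = ρ x ∘ₗ ρ z := fun x => by
    have h1 : ρ (z * x * z⁻¹ * x⁻¹) = 1 := by
      have h2 := hz x
      rw [Representation.char_one] at h2
      exact (character_eq_finrank_iff ρ _).mp h2
    show ρ z * ρ x = ρ x * ρ z
    rw [← map_mul, ← map_mul,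
      show z * x = z * x * z⁻¹ * x⁻¹ * (x * z) by group, map_mul, h1, one_mul]
  let T : Representation.IntertwiningMap ρ ρ := ⟨ρ z, fun x => hc x⟩
  obtain ⟨c, hc'⟩ :=
    (Representation.IsIrreducible.algebraMap_intertwiningMap_bijective_of_isAlgClosed (ρ := ρ)).2 T
  have h1 : ρ z = c • (LinearMap.id : (Fin n → ℂ) →ₗ[ℂ] (Fin n → ℂ)) := by
    have := congrArg (fun S : Representation.IntertwiningMap ρ ρ => S.toLinearMap) hc'
    exact this.symm
  have hn0 : (n : ℂ) ≠ 0 := by
    intro e0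
    refine irr_degree_ne_zero χ.2 ?_
    rw [← e, Representation.char_one, Module.finrank_fin_fun, e0]
  have hc0 : c ≠ 0 := by
    intro e0
    rw [e0, zero_smul] at h1
    have h2 : ρ z * ρ z⁻¹ = 1 := by rw [← map_mul, mul_inv_cancel, map_one]
    rw [h1, zero_mul] at h2
    apply hn0
    have h3 := congrArg (LinearMap.trace ℂ (Fin n → ℂ)) h2
    rw [map_zero, LinearMap.trace_one, Module.finrank_fin_fun] at h3
    exact h3.symm
  rw [Representation.character, h1, map_smul, smul_eq_mul, LinearMap.trace_id,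
    Module.finrank_fin_fun] at h0
  exact mul_ne_zero hc0 hn0 h0

end Exc

end CfsgLib.OneException
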