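import Mathlib

/-!
Sums of two and three powers of `p` modulo `p ^ a - 1`.
-/

set_option autoImplicit false

namespace CfsgLib.OneException

theorem two_pow_lt {p a i j : ℕ} (hp : 3 ≤ p) (hi : i < a) (hj : j < a) (hij : i ≠ j) :
    p ^ i + p ^ j < p ^ a - 1 := by
  have h1 : p ^ i ≤ p ^ (a - 1) := Nat.pow_le_pow_right (by omega) (by omega)
  have h2 : p ^ j ≤ p ^ (a - 1) := Nat.pow_le_pow_right (by omega) (by omega)
  have h3 : 3 * p ^ (a - 1) ≤ p ^ a := by
    conv_rhs => rw [show a = a - 1 + 1 by omega, pow_succ]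
    rw [Nat.mul_comm]; exact Nat.mul_le_mul_left _ hp
  have h4 : 1 < p ^ (a - 1) := Nat.one_lt_pow (by omega) (by omega)
  omega

theorem three_pow_lt {p a i j : ℕ} (hp : 3 ≤ p) (hi : i < a) (hj : j < a) (hij : i ≠ j) :
    2 * p ^ i + p ^ j < p ^ a - 1 := by
  obtain ⟨b, rfl⟩ : ∃ b, a = b + 2 := ⟨a - 2, by omega⟩
  have e1 : p ^ (b + 1) = p ^ b * p := pow_succ p b
  have e2 : p ^ (b + 2) = p ^ (b + 1) * p := pow_succ p (b + 1)
  have h0 : 1 ≤ p ^ b := Nat.one_le_pow _ _ (by omega)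
  have h1 : p ^ (b + 1) * 3 ≤ p ^ (b + 1) * p := Nat.mul_le_mul_left _ hp
  have h2 : p ^ b * 3 ≤ p ^ b * p := Nat.mul_le_mul_left _ hp
  rcases Nat.lt_or_ge i (b + 1) with hib | hib
  · have hi' : p ^ i ≤ p ^ b := Nat.pow_le_pow_right (by omega) (by omega)
    have hj' : p ^ j ≤ p ^ (b + 1) := Nat.pow_le_pow_right (by omega) (by omega)
    omega
  · have hi' : p ^ i ≤ p ^ (b + 1) := Nat.pow_le_pow_right (by omega) (by omega)
    have hj' : p ^ j ≤ p ^ b := Nat.pow_le_pow_right (by omega) (by omega)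
    omega

theorem two_pow_eq {p i j k l : ℕ} (hp : 3 ≤ p) (hij : i < j) (hkl : k ≠ l)
    (h : p ^ i + p ^ j = p ^ k + p ^ l) : (k = i ∧ l = j) ∨ (k = j ∧ l = i) := by
  have key : ∀ {i j k l : ℕ}, i < j → k < l → p ^ i + p ^ j = p ^ k + p ^ l → i = k ∧ j = l := by
    intro i j k l hij hkl h
    have hik : i = k := by
      have aux : ∀ {i j k l : ℕ}, i < k → i < j → k < l → p ^ i + p ^ j ≠ p ^ k + p ^ l := by
        intro i j k l hik hij hkl h
        have h1 : p ^ (i + 1) ∣ p ^ j := pow_dvd_pow p hij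
        have h2 : p ^ (i + 1) ∣ p ^ k + p ^ l :=
          dvd_add (pow_dvd_pow p hik) (pow_dvd_pow p (by omega))
        rw [← h] at h2
        have h3 : p ^ (i + 1) ∣ p ^ i := (Nat.dvd_add_left h1).mp h2
        have := (Nat.pow_dvd_pow_iff_le_right (by omega)).mp h3
        omega
      rcases Nat.lt_trichotomy i k with h1 | h1 | h1
      · exact absurd h (aux h1 hij hkl)
      · exact h1
      · exact absurd h.symm (aux h1 hkl hij)
    subst hik
    exact ⟨rfl, Nat.pow_right_injective (by omega) (Nat.add_left_cancel h)⟩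
  rcases Nat.lt_or_gt_of_ne hkl with h1 | h1
  · obtain ⟨a, b⟩ := key hij h1 h; exact Or.inl ⟨a.symm, b.symm⟩
  · obtain ⟨a, b⟩ := key hij h1 (by rw [h, Nat.add_comm]); exact Or.inr ⟨b.symm, a.symm⟩

theorem three_pow_eq {p i j k l : ℕ} (hp : 3 ≤ p) (hij : i ≠ j) (hkl : k ≠ l)
    (h : 2 * p ^ i + p ^ j = 2 * p ^ k + p ^ l) : i = k := by
  -- the least exponent and its coefficient are determined
  have nd : ∀ n, ¬ p ^ (n + 1) ∣ 2 * p ^ n := fun n hd => by
    have h1 : p ^ n * p ∣ p ^ n * 2 := by rw [← pow_succ, Nat.mul_comm _ 2]; exact hd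
    have := Nat.le_of_dvd (by omega) (Nat.dvd_of_mul_dvd_mul_left (pow_pos (by omega) n) h1)
    omega
  have nd1 : ∀ n, ¬ p ^ (n + 1) ∣ p ^ n := fun n hd => by
    have := (Nat.pow_dvd_pow_iff_le_right (by omega)).mp hd
    omega
  have low : ∀ {i j k l : ℕ}, i ≠ j → k ≠ l → 2 * p ^ i + p ^ j = 2 * p ^ k + p ^ l →
      min i j ≤ k ∧ min i j ≤ l := by
    intro i j k l hij hkl h
    by_contra hcon
    have hmin : min k l < min i j := by omega
    have h1 : p ^ (min k l + 1) ∣ 2 * p ^ i + p ^ j :=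
      dvd_add (Dvd.dvd.mul_left (pow_dvd_pow p (by omega)) 2) (pow_dvd_pow p (by omega))
    rw [h] at h1
    rcases Nat.lt_or_gt_of_ne hkl with hk | hk
    · rw [min_eq_left hk.le] at h1
      exact nd k ((Nat.dvd_add_left (pow_dvd_pow p hk)).mp h1)
    · rw [min_eq_right hk.le] at h1
      exact nd1 l ((Nat.dvd_add_right (Dvd.dvd.mul_left (pow_dvd_pow p hk) 2)).mp h1)
  obtain ⟨a1, a2⟩ := low hij hkl h
  obtain ⟨b1, b2⟩ := low hkl hij h.symm
  by_contra hik
  rcases Nat.lt_or_gt_of_ne hij with hi | hi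
  · -- `i` is least, so `l = i < k`
    have hli : l = i := by omega
    subst hli
    have h1 : p ^ (l + 1) ∣ 2 * p ^ k := Dvd.dvd.mul_left (pow_dvd_pow p (by omega)) 2
    have h2 : p ^ (l + 1) ∣ p ^ j := pow_dvd_pow p hi
    have h3 : p ^ l + p ^ j = 2 * p ^ k := by omega
    rw [← h3] at h1
    exact nd1 l ((Nat.dvd_add_left h2).mp h1)
  · have hkj : k = j := by
      rcases (show k = j ∨ l = j by omega) with h' | h'
      · exact h'
      · subst h'
        have h3 : p ^ i = p ^ k := by omega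
        exact absurd (Nat.pow_right_injective (by omega) h3) hik
    subst hkj
    have h1 : p ^ (k + 1) ∣ 2 * p ^ i := Dvd.dvd.mul_left (pow_dvd_pow p hi) 2
    have h2 : p ^ (k + 1) ∣ p ^ l := pow_dvd_pow p (by omega)
    have h3 : p ^ k + p ^ l = 2 * p ^ i := by omega
    rw [← h3] at h1
    exact nd1 k ((Nat.dvd_add_left h2).mp h1)

theorem pow_mod_sub_one {p a i : ℕ} (hp : 1 < p) :
    p ^ i ≡ p ^ (i % a) [MOD p ^ a - 1] := by
  have h1 : p ^ a ≡ 1 [MOD p ^ a - 1] :=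
    ((Nat.modEq_iff_dvd' (Nat.one_le_pow _ _ (by omega))).mpr dvd_rfl).symm
  conv_lhs => rw [← Nat.mod_add_div i a, pow_add, pow_mul]
  simpa using (Nat.ModEq.refl (p ^ (i % a))).mul (h1.pow (i / a))

/-- A pair exponent fixed by a proper Frobenius power is antipodal. -/
theorem antipodal {p a i j d : ℕ} (hp : 3 ≤ p) (hi : i < a) (hj : j < a) (hij : i ≠ j)
    (hd : 0 < d) (hda : d < a)
    (h : (p ^ i + p ^ j) * p ^ d ≡ p ^ i + p ^ j [MOD p ^ a - 1]) :
    2 * d = a ∧ (j = (i + d) % a) := by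
  have ha : 0 < a := by omega
  have h1 : p ^ ((i + d) % a) + p ^ ((j + d) % a) ≡ p ^ i + p ^ j [MOD p ^ a - 1] := by
    refine ((pow_mod_sub_one (by omega)).symm.add (pow_mod_sub_one (by omega)).symm).trans ?_
    rw [pow_add, pow_add, ← add_mul]
    exact h
  have e : ∀ k, k < a → ((k + d) % a = k + d ∧ k + d < a) ∨
      ((k + d) % a = k + d - a ∧ a ≤ k + d) := by
    intro k hk
    rcases Nat.lt_or_ge (k + d) a with hlt | hge
    · exact Or.inl ⟨Nat.mod_eq_of_lt hlt, hlt⟩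
    · refine Or.inr ⟨?_, hge⟩
      rw [Nat.mod_eq_sub_mod hge, Nat.mod_eq_of_lt (by omega)]
  have ei := e i hi
  have ej := e j hj
  have hne : (i + d) % a ≠ (j + d) % a := by omega
  have h2 : p ^ ((i + d) % a) + p ^ ((j + d) % a) = p ^ i + p ^ j :=
    h1.eq_of_lt_of_lt (two_pow_lt hp (Nat.mod_lt _ ha) (Nat.mod_lt _ ha) hne) (two_pow_lt hp hi hj hij)
  rcases Nat.lt_or_gt_of_ne hij with hlt | hgt
  · rcases two_pow_eq hp hlt hne h2.symm with ⟨e1, e2⟩ | ⟨e1, e2⟩ <;> omega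
  · rcases two_pow_eq hp hgt hne (by rw [h2, Nat.add_comm]) with ⟨e1, e2⟩ | ⟨e1, e2⟩ <;> omega

/-- A triple exponent with one repeated digit is not fixed by a proper Frobenius power. -/
theorem no_fixed_triple {p a i j d : ℕ} (hp : 3 ≤ p) (hi : i < a) (hj : j < a) (hij : i ≠ j)
    (hd : 0 < d) (hda : d < a) :
    ¬ (2 * p ^ i + p ^ j) * p ^ d ≡ 2 * p ^ i + p ^ j [MOD p ^ a - 1] := by
  intro h
  have ha : 0 < a := by omega
  have h1 : 2 * p ^ ((i + d) % a) + p ^ ((j + d) % a) ≡ 2 * p ^ i + p ^ j [MOD p ^ a - 1] := by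
    refine (((pow_mod_sub_one (by omega)).symm.mul_left 2).add
      (pow_mod_sub_one (by omega)).symm).trans ?_
    rw [pow_add, pow_add, ← mul_assoc, ← add_mul]
    exact h
  have e : ∀ k, k < a → ((k + d) % a = k + d ∧ k + d < a) ∨
      ((k + d) % a = k + d - a ∧ a ≤ k + d) := by
    intro k hk
    rcases Nat.lt_or_ge (k + d) a with hlt | hge
    · exact Or.inl ⟨Nat.mod_eq_of_lt hlt, hlt⟩
    · refine Or.inr ⟨?_, hge⟩
      rw [Nat.mod_eq_sub_mod hge, Nat.mod_eq_of_lt (by omega)]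
  have ei := e i hi
  have ej := e j hj
  have hne : (i + d) % a ≠ (j + d) % a := by omega
  have h2 := h1.eq_of_lt_of_lt (three_pow_lt hp (Nat.mod_lt _ ha) (Nat.mod_lt _ ha) hne)
    (three_pow_lt hp hi hj hij)
  have := three_pow_eq hp hne hij h2
  omega

end CfsgLib.OneException
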