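import Mathlib

/-!
Additive maps of a finite field into itself are combinations of the Frobenius powers.
-/

set_option autoImplicit false
set_option linter.unusedSectionVars false

namespace CfsgLib.OneException

open Finset

variable {F : Type*} [Field F] [Fintype F] {p a : ℕ} [Fact p.Prime] [CharP F p]

/-- A generator of the units of a field with `p ^ a` elements. -/
structure Gen (F : Type*) [Field F] [Fintype F] (p a : ℕ) (θ : F) : Prop where
  card : Fintype.card F = p ^ a
  order : orderOf θ = p ^ a - 1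

variable {θ : F}

namespace Gen

theorem pos (h : Gen F p a θ) : 0 < a := by
  rcases Nat.eq_zero_or_pos a with rfl | h0
  · have := Fintype.one_lt_card (α := F)
    rw [h.card, pow_zero] at this
    omega
  · exact h0

theorem one_lt (h : Gen F p a θ) : 1 < p ^ a :=
  Nat.one_lt_pow h.pos.ne' (Fact.out : p.Prime).one_lt

theorem ne_zero (h : Gen F p a θ) : θ ≠ 0 := by
  rintro rfl
  have h1 := h.order
  have h2 := h.one_lt
  rw [orderOf_zero] at h1
  omega

theorem pow_eq_one (h : Gen F p a θ) : θ ^ (p ^ a - 1) = 1 := h.order ▸ pow_orderOf_eq_one θ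

theorem pow_eq_pow (h : Gen F p a θ) {k l : ℕ} : θ ^ k = θ ^ l ↔ k ≡ l [MOD p ^ a - 1] := by
  rw [← h.order]
  exact (isOfFinOrder_iff_pow_eq_one.mpr ⟨_, Nat.sub_pos_of_lt h.one_lt, h.pow_eq_one⟩).pow_eq_pow_iff_modEq

theorem exists_pow (h : Gen F p a θ) {x : F} (hx : x ≠ 0) : ∃ k, θ ^ k = x := by
  classical
  let f : Fin (p ^ a - 1) → Fˣ := fun k => Units.mk0 θ h.ne_zero ^ (k : ℕ)
  have hinj : Function.Injective f := fun k l e => by
    have e1 := congrArg Units.val e
    simp only [f, Units.val_pow_eq_pow_val, Units.val_mk0] at e1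
    exact Fin.ext ((h.pow_eq_pow.mp e1).eq_of_lt_of_lt k.2 l.2)
  have hsur := (Fintype.bijective_iff_injective_and_card f).mpr
    ⟨hinj, by rw [Fintype.card_fin, Fintype.card_units, h.card]⟩
  obtain ⟨k, hk⟩ := hsur.2 (Units.mk0 x hx)
  refine ⟨k, ?_⟩
  have := congrArg Units.val hk
  simpa [f] using this

theorem cast_eq (h : Gen F p a θ) : ((p ^ a - 1 : ℕ) : F) = -1 := by
  have h2 : ((p ^ a : ℕ) : F) = 0 := by
    push_cast
    rw [CharP.cast_eq_zero F p, zero_pow h.pos.ne']
  rw [Nat.cast_sub h.one_lt.le, h2]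
  simp

theorem sum_pow (h : Gen F p a θ) {x : F} (hx : x ^ (p ^ a - 1) = 1) :
    ∑ j ∈ range (p ^ a - 1), x ^ j = open Classical in if x = 1 then -1 else 0 := by
  split_ifs with h1
  · simp only [h1, one_pow, sum_const, card_range, nsmul_eq_mul, mul_one]
    exact h.cast_eq
  · rw [geom_sum_eq h1, hx, sub_self, zero_div]

end Gen

/-- Powers of the Frobenius. -/
theorem add_pow_char_pow' (x y : F) (i : ℕ) : (x + y) ^ p ^ i = x ^ p ^ i + y ^ p ^ i :=
  add_pow_char_pow x y p i

theorem exists_frobenius {k : ℕ} (h : Gen F p a θ) (hk : 0 < k)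
    (hadd : ∀ x y : F, (x + y) ^ k = x ^ k + y ^ k) : ∃ i < a, θ ^ k = θ ^ p ^ i := by
  letI : Algebra (ZMod p) F := ZMod.algebra F p
  let f : F →+* F :=
    { toFun := fun x => x ^ k
      map_one' := one_pow k
      map_mul' := fun x y => mul_pow x y k
      map_zero' := zero_pow hk.ne'
      map_add' := hadd }
  have hc : ∀ c : ZMod p, f (algebraMap (ZMod p) F c) = algebraMap (ZMod p) F c := fun c =>
    RingHom.congr_fun (Subsingleton.elim (f.comp (algebraMap (ZMod p) F))
      (algebraMap (ZMod p) F)) c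
  let φ : F →ₐ[ZMod p] F := { f with commutes' := hc }
  obtain ⟨i, hi⟩ := (FiniteField.bijective_frobeniusAlgHom_pow (ZMod p) F).2 φ
  have hrank : Module.finrank (ZMod p) F = a := by
    have h1 := Module.card_eq_pow_finrank (K := ZMod p) (V := F)
    rw [h.card, ZMod.card] at h1
    exact (Nat.pow_right_injective (Fact.out : p.Prime).two_le h1).symm
  refine ⟨i, hrank ▸ i.2, ?_⟩
  have h2 : φ θ = θ ^ p ^ (i : ℕ) := by
    rw [← hi]
    show ((FiniteField.frobeniusAlgHom (ZMod p) F ^ (i : ℕ)) : F →ₐ[ZMod p] F) θ = _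
    rw [AlgHom.coe_pow, FiniteField.coe_frobeniusAlgHom, pow_iterate, Fintype.card_eq_nat_card,
      Nat.card_zmod]
  exact h2

/-- The coefficient of the Frobenius power `i`. -/
noncomputable def coef (p a : ℕ) (θ : F) (L : F → F) (i : ℕ) : F :=
  -∑ j ∈ range (p ^ a - 1), (θ ^ p ^ i)⁻¹ ^ j * L (θ ^ j)

theorem coef_add (L M : F → F) (i : ℕ) :
    coef p a θ (fun x => L x + M x) i = coef p a θ L i + coef p a θ M i := by
  simp only [coef, mul_add, sum_add_distrib, neg_add]

theorem coef_mul (c : F) (L : F → F) (i : ℕ) :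
    coef p a θ (fun x => c * L x) i = c * coef p a θ L i := by
  simp only [coef, mul_neg, mul_sum, mul_left_comm]

theorem pow_pow_comm (x : F) (m n : ℕ) : (x ^ m) ^ n = (x ^ n) ^ m := by
  rw [← pow_mul, ← pow_mul, Nat.mul_comm]

/-- Every additive map is a combination of Frobenius powers. -/
theorem eq_sum_coef (h : Gen F p a θ) (L : F → F) (hL : ∀ x y, L (x + y) = L x + L y) (x : F) :
    L x = ∑ i ∈ range a, coef p a θ L i * x ^ p ^ i := by
  classical
  set m := p ^ a - 1 with hm
  have hmpos : 0 < m := Nat.sub_pos_of_lt h.one_lt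
  let π : ℕ → F → F := fun k z => -∑ j ∈ range m, (θ ^ k)⁻¹ ^ j * L (θ ^ j * z)
  have hπadd : ∀ k z w, π k (z + w) = π k z + π k w := by
    intro k z w
    simp only [π, mul_add, hL, sum_add_distrib, neg_add]
  have hsum : ∀ z, L z = ∑ k ∈ range m, π k z := by
    intro z
    simp only [π, sum_neg_distrib]
    rw [sum_comm, sum_eq_single 0]
    · rw [sum_congr rfl fun k _ => by rw [pow_zero, one_mul, pow_zero, one_mul],
        sum_const, card_range, nsmul_eq_mul, h.cast_eq, neg_one_mul, neg_neg]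
    · intro j hj hj0
      rw [← sum_mul, sum_congr rfl fun k _ =>
        show (θ ^ k)⁻¹ ^ j = ((θ ^ j)⁻¹) ^ k by rw [inv_pow, inv_pow, pow_pow_comm], h.sum_pow,
        if_neg, zero_mul]
      · rw [inv_eq_one, ← pow_zero θ, h.pow_eq_pow]
        exact fun e => hj0 (e.eq_of_lt_of_lt (mem_range.mp hj) hmpos)
      · rw [inv_pow, pow_pow_comm, h.pow_eq_one, one_pow, inv_one]
    · intro h0; exact absurd (mem_range.mpr hmpos) h0
  have hπθ : ∀ k z, π k (θ * z) = θ ^ k * π k z := by
    intro k z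
    have hne : θ ^ k ≠ 0 := pow_ne_zero _ h.ne_zero
    let f : ℕ → F := fun j => (θ ^ k)⁻¹ ^ j * L (θ ^ j * z)
    have hf0 : f m = f 0 := by
      simp only [f, inv_pow]
      rw [pow_pow_comm θ k m, hm, h.pow_eq_one, one_pow, inv_one, pow_zero, pow_zero, inv_one]
    have hshift : ∑ j ∈ range m, f (j + 1) = ∑ j ∈ range m, f j := by
      have h1 := sum_range_succ' f m
      rw [sum_range_succ, hf0] at h1
      exact (add_right_cancel h1).symm
    show -∑ j ∈ range m, (θ ^ k)⁻¹ ^ j * L (θ ^ j * (θ * z)) = θ ^ k * -∑ j ∈ range m, f j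
    rw [← hshift, mul_neg, mul_sum]
    refine congrArg Neg.neg (sum_congr rfl fun j _ => ?_)
    simp only [f, pow_succ (θ ^ k)⁻¹ j, pow_succ θ j, mul_assoc (θ ^ j)]
    field_simp
  have hπ0 : ∀ k, π k 0 = 0 := fun k => by
    have := hπadd k 0 0
    rw [add_zero] at this
    simpa using this
  have hmono : ∀ k z, π k z = π k 1 * if z = 0 then 0 else z ^ k := by
    intro k z
    split_ifs with hz
    · rw [hz, mul_zero, hπ0]
    · obtain ⟨j, rfl⟩ := h.exists_pow hz
      clear hz
      induction j with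
      | zero => simp
      | succ j ih => rw [pow_succ', hπθ, ih, mul_pow]; ring
  -- only Frobenius exponents occur
  have hk : ∀ k ∈ range m, π k 1 ≠ 0 → ∃ i < a, k ≡ p ^ i [MOD m] := by
    intro k _ hne
    let k' := k + m
    have hk' : 0 < k' := by omega
    have e : ∀ z : F, (if z = 0 then 0 else z ^ k) = z ^ k' := by
      intro z
      split_ifs with hz
      · rw [hz, zero_pow hk'.ne']
      · obtain ⟨j, rfl⟩ := h.exists_pow hz
        rw [pow_add, pow_pow_comm θ j m, h.pow_eq_one, one_pow, mul_one]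
    obtain ⟨i, hi, he⟩ := exists_frobenius h hk' fun z w => by
      have h1 := hπadd k z w
      rw [hmono k (z + w), hmono k z, hmono k w, e, e, e, ← mul_add] at h1
      exact mul_left_cancel₀ hne h1
    refine ⟨i, hi, ?_⟩
    have h2 := h.pow_eq_pow.mp he
    exact ((Nat.ModEq.refl k).add_right_cancel' 0).trans ((Nat.add_modEq_right).symm.trans h2)
  rw [hsum x]
  -- re-index
  let e : ℕ → ℕ := fun i => p ^ i % m
  have hem : ∀ i ∈ range a, e i ∈ range m := fun i _ => mem_range.mpr (Nat.mod_lt _ hmpos)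
  have hpow : ∀ i ∈ range a, coef p a θ L i * x ^ p ^ i = π (e i) x := by
    intro i _
    have h1 : θ ^ p ^ i = θ ^ e i := h.pow_eq_pow.mpr (Nat.mod_modEq _ _).symm
    have h2 : coef p a θ L i = π (e i) 1 := by
      simp only [coef, π, h1, mul_one]
      rfl
    rw [h2, hmono (e i) x]
    congr 1
    split_ifs with hx
    · rw [hx, zero_pow (pow_pos (Fact.out : p.Prime).pos i).ne']
    · obtain ⟨j, rfl⟩ := h.exists_pow hx
      rw [pow_pow_comm θ j, pow_pow_comm θ j, h1]
  rw [sum_congr rfl hpow]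
  have hinj : ∀ i ∈ range a, ∀ l ∈ range a, e i = e l → i = l := by
    intro i hi l hl he
    have h1 : p ^ i ≡ p ^ l [MOD m] := he
    have hb : ∀ t, t < a → p ^ t < m ∨ a = 1 := by
      intro t ht
      rcases Nat.lt_or_ge 1 a with ha | ha
      · refine Or.inl ?_
        have h2 : p ^ t ≤ p ^ (a - 1) := Nat.pow_le_pow_right (Fact.out : p.Prime).pos (by omega)
        have h3 : p ^ (a - 1) * 2 ≤ p ^ a := by
          conv_rhs => rw [show a = a - 1 + 1 by omega, pow_succ]
          exact Nat.mul_le_mul_left _ (Fact.out : p.Prime).two_le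
        have h4 := Nat.one_lt_pow (show a - 1 ≠ 0 by omega) (Fact.out : p.Prime).one_lt
        omega
      · exact Or.inr (by omega)
    rw [mem_range] at hi hl
    rcases hb i hi with hbi | ha1
    · rcases hb l hl with hbl | ha1
      · exact Nat.pow_right_injective (Fact.out : p.Prime).two_le (h1.eq_of_lt_of_lt hbi hbl)
      · omega
    · omega
  rw [← sum_image (f := fun k => π k x) fun i hi l hl he => hinj i hi l hl he]
  refine (sum_subset (fun k hk' => ?_) fun k hkm hnot => ?_).symm
  · obtain ⟨i, hi, rfl⟩ := mem_image.mp hk'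
    exact hem i hi
  · rw [hmono k x]
    by_contra hne
    obtain ⟨i, hi, he⟩ := hk k hkm (left_ne_zero_of_mul hne)
    exact hnot (mem_image.mpr ⟨i, mem_range.mpr hi,
      (Eq.symm he).trans (Nat.mod_eq_of_lt (mem_range.mp hkm))⟩)

theorem coef_frob (h : Gen F p a θ) {i l : ℕ} (hi : i < a) (hl : l < a) :
    coef p a θ (fun x => x ^ p ^ l) i = if i = l then 1 else 0 := by
  classical
  simp only [coef]
  rw [sum_congr rfl fun j _ => show (θ ^ p ^ i)⁻¹ ^ j * (θ ^ j) ^ p ^ l =
      ((θ ^ p ^ i)⁻¹ * θ ^ p ^ l) ^ j by rw [mul_pow, pow_pow_comm θ j]]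
  rw [h.sum_pow (by rw [mul_pow, inv_pow, pow_pow_comm, h.pow_eq_one, one_pow, inv_one, one_mul,
    pow_pow_comm, h.pow_eq_one, one_pow])]
  split_ifs with h1 h2 h2
  · rw [neg_neg]
  · exfalso
    have h3 := h.pow_eq_pow.mp ((inv_mul_eq_one₀ (pow_ne_zero _ h.ne_zero)).mp h1)
    rcases Nat.lt_or_gt_of_ne h2 with hlt | hgt
    all_goals
      have hp2 := (Fact.out : p.Prime).two_le
      have hpi : p ^ i ≤ p ^ (a - 1) := Nat.pow_le_pow_right (by omega) (by omega)
      have hpl : p ^ l ≤ p ^ (a - 1) := Nat.pow_le_pow_right (by omega) (by omega)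
      have hpa : p ^ (a - 1) * 2 ≤ p ^ a := by
        conv_rhs => rw [show a = a - 1 + 1 by omega, pow_succ]
        exact Nat.mul_le_mul_left _ hp2
      have hb := Nat.one_lt_pow (show a - 1 ≠ 0 by omega) (show 1 < p by omega)
      exact h2 (Nat.pow_right_injective hp2 (h3.eq_of_lt_of_lt (by omega) (by omega)))
  · subst h2
    exact absurd (inv_mul_cancel₀ (pow_ne_zero _ h.ne_zero)) h1
  · rw [neg_zero]

theorem coef_sum (h : Gen F p a θ) (c : ℕ → F) {i : ℕ} (hi : i < a) :
    coef p a θ (fun x => ∑ l ∈ range a, c l * x ^ p ^ l) i = c i := by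
  classical
  have h1 : coef p a θ (fun x => ∑ l ∈ range a, c l * x ^ p ^ l) i =
      ∑ l ∈ range a, c l * coef p a θ (fun x => x ^ p ^ l) i := by
    simp only [coef, mul_sum, mul_neg, sum_neg_distrib]
    rw [sum_comm]
    exact congrArg Neg.neg (sum_congr rfl fun l _ => sum_congr rfl fun j _ => by ring)
  rw [h1, sum_eq_single i]
  · rw [coef_frob h hi hi, if_pos rfl, mul_one]
  · intro l hl hne
    rw [coef_frob h hi (mem_range.mp hl), if_neg hne.symm, mul_zero]
  · intro hn; exact absurd (mem_range.mpr hi) hn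

end CfsgLib.OneException
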