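import Cfsg.Agent.Lib.OneException.Weights

/-!
A finite `p`-group whose abelianisation is a field on which an automorphism acts as a generator of
the units, and in which every coset of the derived subgroup outside it is a single class, has
class at most two and exponent `p`.
-/

set_option autoImplicit false
set_option linter.unusedSectionVars false
set_option linter.style.haveILetI false

open scoped commutatorElement

namespace CfsgLib.OneException

/-- A subgroup contained in its commutator with a nilpotent group is trivial. -/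
theorem eq_bot_of_le_commutator {T : Type*} [Group T] [Group.IsNilpotent T] {A : Subgroup T}
    (h : A ≤ ⁅A, (⊤ : Subgroup T)⁆) : A = ⊥ := by
  obtain ⟨n, hn⟩ := Subgroup.nilpotent_iff_lowerCentralSeries.mp (inferInstance : Group.IsNilpotent T)
  have hall : ∀ i, A ≤ (⊤ : Subgroup T).lowerCentralSeries i := by
    intro i
    induction i with
    | zero => simp
    | succ i ih =>
      rw [Subgroup.lowerCentralSeries_succ]
      exact h.trans (Subgroup.commutator_mono ih le_rfl)
  exact le_bot_iff.mp (hn ▸ hall n)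

variable {F : Type*} [Field F] [Fintype F] {p a : ℕ} [Fact p.Prime] [CharP F p] {θ : F}

/-- Coordinates of the abelianisation of `T`. -/
structure Coords (T : Type*) [Group T] (θ : F) (s : F → T) (φ : T ≃* T) : Prop where
  add : ∀ x y, (s (x + y))⁻¹ * (s x * s y) ∈ commutator T
  surj : ∀ t, ∃ x, (s x)⁻¹ * t ∈ commutator T
  twist : ∀ x, (s (θ * x))⁻¹ * φ (s x) ∈ commutator T
  cls : ∀ y : T, y ∉ commutator T → ∀ d ∈ commutator T, ∃ t : T, ⁅t, y⁆ = d

section Three

variable {T : Type*} [Group T] [Finite T]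

theorem comm_mul_left (a b c : T) : ⁅a * b, c⁆ = a * ⁅b, c⁆ * a⁻¹ * ⁅a, c⁆ := by
  simp only [commutatorElement_def]; group

theorem comm_mul_right (a b c : T) : ⁅a, b * c⁆ = ⁅a, b⁆ * (b * ⁅a, c⁆ * b⁻¹) := by
  simp only [commutatorElement_def]; group

theorem comm_mem_D (a b : T) : ⁅a, b⁆ ∈ commutator T :=
  Subgroup.commutator_mem_commutator (Subgroup.mem_top a) (Subgroup.mem_top b)

theorem comm_mem_C3 {d : T} (hd : d ∈ commutator T) (t : T) :
    ⁅d, t⁆ ∈ ⁅commutator T, (⊤ : Subgroup T)⁆ :=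
  Subgroup.commutator_mem_commutator hd (Subgroup.mem_top t)

variable (h4 : ⁅⁅commutator T, (⊤ : Subgroup T)⁆, (⊤ : Subgroup T)⁆ = ⊥)

include h4 in
theorem C3_central {c : T} (hc : c ∈ ⁅commutator T, (⊤ : Subgroup T)⁆) (t : T) :
    c * t = t * c := by
  have h := Subgroup.commutator_mem_commutator hc (Subgroup.mem_top t)
  rw [h4, Subgroup.mem_bot, commutatorElement_eq_one_iff_mul_comm] at h
  exact h

include h4 in
theorem D_comm {d e : T} (hd : d ∈ commutator T) (he : e ∈ commutator T) : d * e = e * d := by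
  have h1 : ⁅⁅(⊤ : Subgroup T), commutator T⁆, (⊤ : Subgroup T)⁆ = ⊥ := by
    rw [Subgroup.commutator_comm ⊤ (commutator T)]; exact h4
  have h2 : ⁅⁅(⊤ : Subgroup T), ⊤⁆, commutator T⁆ = ⊥ :=
    Subgroup.commutator_commutator_eq_bot_of_rotate h1 h4
  rw [← commutator_def] at h2
  have h := Subgroup.commutator_mem_commutator hd he
  rw [h2, Subgroup.mem_bot, commutatorElement_eq_one_iff_mul_comm] at h
  exact h

include h4 in
theorem comm_D_mul_right {d : T} (hd : d ∈ commutator T) (x y : T) :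
    ⁅d, x * y⁆ = ⁅d, x⁆ * ⁅d, y⁆ := by
  rw [comm_mul_right, ← C3_central h4 (comm_mem_C3 hd y) x, mul_inv_cancel_right]

include h4 in
theorem comm_D_mul_left {d e : T} (hd : d ∈ commutator T) (he : e ∈ commutator T) (x : T) :
    ⁅d * e, x⁆ = ⁅d, x⁆ * ⁅e, x⁆ := by
  rw [comm_mul_left, ← C3_central h4 (comm_mem_C3 he x) d, mul_inv_cancel_right,
    C3_central h4 (comm_mem_C3 he x)]

include h4 in
theorem comm_D_inv {d : T} (hd : d ∈ commutator T) (x : T) : ⁅d⁻¹, x⁆ = ⁅d, x⁆⁻¹ := by
  rw [eq_inv_iff_mul_eq_one, ← comm_D_mul_left h4 (inv_mem hd) hd, inv_mul_cancel,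
    commutatorElement_one_left]

include h4 in
theorem comm_D_D {d e : T} (hd : d ∈ commutator T) (he : e ∈ commutator T) : ⁅d, e⁆ = 1 :=
  commutatorElement_eq_one_iff_mul_comm.mpr (D_comm h4 hd he)

include h4 in
theorem jacobi (x y z : T) : ⁅⁅x, y⁆, z⁆ * ⁅⁅y, z⁆, x⁆ * ⁅⁅z, x⁆, y⁆ = 1 := by
  have hu := comm_mem_D z x
  have hv := comm_mem_D z y
  have key : ∀ u ∈ commutator T, ∀ v ∈ commutator T,
      ⁅u * x, v * y⁆ = ⁅v, x⁆⁻¹ * ⁅u, y⁆ * ⁅x, y⁆ := by
    intro u hu v hv
    have e1 : ⁅x, v * y⁆ = ⁅v, x⁆⁻¹ * ⁅x, y⁆ := by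
      rw [comm_mul_right, commutatorElement_inv, D_comm h4 hv (comm_mem_D x y),
        mul_inv_cancel_right]
    have e2 : ⁅u, v * y⁆ = ⁅u, y⁆ := by
      rw [comm_D_mul_right h4 hu, comm_D_D h4 hu hv, one_mul]
    rw [comm_mul_left, e1, e2,
      D_comm h4 hu (mul_mem (inv_mem (comm_mem_D v x)) (comm_mem_D x y)), mul_inv_cancel_right,
      mul_assoc, mul_assoc, D_comm h4 (comm_mem_D x y) (comm_mem_D u y)]
  have e3 : z * ⁅x, y⁆ * z⁻¹ = ⁅⁅z, x⁆ * x, ⁅z, y⁆ * y⁆ := by
    simp only [commutatorElement_def]; group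
  rw [key _ hu _ hv,
    show z * ⁅x, y⁆ * z⁻¹ = ⁅⁅x, y⁆, z⁆⁻¹ * ⁅x, y⁆ by
      rw [commutatorElement_inv, commutatorElement_def z ⁅x, y⁆]; group,
    mul_left_inj, show ⁅z, y⁆ = ⁅y, z⁆⁻¹ from (commutatorElement_inv y z).symm,
    comm_D_inv h4 (comm_mem_D y z), inv_inv] at e3
  have e4 := inv_eq_iff_mul_eq_one.mp e3
  rw [← mul_assoc] at e4
  exact e4

end Three

section Count

variable {T : Type*} [Group T] [Finite T] {s : F → T} {φ : T ≃* T}

/-- A central subgroup inside the derived subgroup is small. -/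
theorem centre_small (hcl : ∀ y : T, y ∉ commutator T → ∀ d ∈ commutator T, ∃ t : T, ⁅t, y⁆ = d)
    (hne : commutator T ≠ ⊤) {Z : Subgroup T} (hZ : Z ≤ commutator T)
    (hc : ∀ z ∈ Z, ∀ t, z * t = t * z) : Nat.card Z < (commutator T).index := by
  obtain ⟨y, hy⟩ : ∃ y, y ∉ commutator T := by
    by_contra hcon
    push Not at hcon
    exact hne (eq_top_iff.mpr fun t _ => hcon t)
  set C := Subgroup.centralizer ({y} : Set T) with hC
  choose f hf using fun d : commutator T => hcl y hy d d.2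
  have hinj : Function.Injective fun d => (QuotientGroup.mk (f d) : T ⧸ C) := by
    intro d e he
    have h1 : (f d)⁻¹ * f e ∈ C := QuotientGroup.eq.mp he
    rw [hC, Subgroup.mem_centralizer_singleton_iff] at h1
    refine Subtype.ext ?_
    rw [← hf d, ← hf e, commutatorElement_def, commutatorElement_def]
    have h2 : f e * y * (f e)⁻¹ = f d * y * (f d)⁻¹ := by
      have : f e * y = f d * (y * ((f d)⁻¹ * f e)) := by rw [← h1]; group
      rw [this]; group
    rw [h2]
  have h1 : Nat.card (commutator T) ≤ C.index := Nat.card_le_card_of_injective _ hinj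
  have h2 : Nat.card C ≤ (commutator T).index := by
    refine Nat.le_of_mul_le_mul_left ?_ (Nat.card_pos (α := commutator T))
    rw [Subgroup.card_mul_index, ← Subgroup.index_mul_card C]
    exact Nat.mul_le_mul_right _ h1
  have hlt : Z < C := by
    refine lt_of_le_of_ne (fun z hz => Subgroup.mem_centralizer_singleton_iff.mpr (hc z hz y)) ?_
    intro e
    exact hy (hZ (e ▸ Subgroup.mem_centralizer_singleton_iff.mpr rfl))
  refine lt_of_lt_of_le ?_ h2
  by_contra hcon
  push Not at hcon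
  exact hlt.ne (Subgroup.eq_of_le_of_card_ge hlt.le hcon)

end Count

section Main

variable {T : Type*} [Group T] [Finite T] {s : F → T} {φ : T ≃* T}

theorem C3_eq_bot_of_C4 (h : Gen F p a θ) (hp : 3 ≤ p) (hidx : (commutator T).index = p ^ a)
    (hs : Coords T θ s φ) (h4 : ⁅⁅commutator T, (⊤ : Subgroup T)⁆, (⊤ : Subgroup T)⁆ = ⊥) :
    ⁅commutator T, (⊤ : Subgroup T)⁆ = ⊥ := by
  classical
  set D := commutator T with hD
  set C3 := ⁅D, (⊤ : Subgroup T)⁆ with hC3
  have hne : D ≠ ⊤ := by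
    intro e
    rw [e, Subgroup.index_top] at hidx
    exact absurd hidx (ne_of_lt h.one_lt)
  haveI hC3n : C3.Normal := by rw [hC3]; infer_instance
  have hC3D : C3 ≤ D := by
    rw [hC3, hD, commutator_def]; exact Subgroup.commutator_mono le_top le_rfl
  let K : Subgroup D := C3.subgroupOf D
  letI : CommGroup (↥D ⧸ K) :=
    { (inferInstance : Group (↥D ⧸ K)) with
      mul_comm := fun u v => by
        obtain ⟨u, rfl⟩ := QuotientGroup.mk_surjective u
        obtain ⟨v, rfl⟩ := QuotientGroup.mk_surjective v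
        rw [← QuotientGroup.mk_mul, ← QuotientGroup.mk_mul]
        exact congrArg _ (Subtype.ext (D_comm h4 u.2 v.2)) }
  letI : CommGroup C3 :=
    { (inferInstance : Group C3) with
      mul_comm := fun u v => Subtype.ext (C3_central h4 u.2 v) }
  let b : T → T → ↥D ⧸ K := fun x y => QuotientGroup.mk (⟨⁅x, y⁆, comm_mem_D x y⟩ : D)
  have hbD : ∀ {d : T}, d ∈ D → ∀ x, b d x = 1 := fun hd x =>
    (QuotientGroup.eq_one_iff _).mpr (Subgroup.mem_subgroupOf.mpr (comm_mem_C3 hd x))
  have hb_inv : ∀ x y, b y x = (b x y)⁻¹ := fun x y => by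
    simp only [b, ← QuotientGroup.mk_inv]
    exact congrArg _ (Subtype.ext (commutatorElement_inv x y).symm)
  have hbl : ∀ x y z, b (x * y) z = b x z * b y z := fun x y z => by
    have e1 : x * ⁅y, z⁆ * x⁻¹ = ⁅x, ⁅y, z⁆⁆ * ⁅y, z⁆ := by
      rw [commutatorElement_def x ⁅y, z⁆]; group
    have hm : ⁅x, ⁅y, z⁆⁆ ∈ C3 := by
      rw [← commutatorElement_inv]; exact inv_mem (comm_mem_C3 (comm_mem_D y z) x)
    simp only [b, ← QuotientGroup.mk_mul]
    refine QuotientGroup.eq.mpr (Subgroup.mem_subgroupOf.mpr ?_)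
    simp only [Subgroup.coe_mul, Subgroup.coe_inv]
    rw [comm_mul_left, e1, mul_assoc, D_comm h4 (comm_mem_D y z) (comm_mem_D x z), mul_inv_rev,
      mul_assoc, C3_central h4 (inv_mem hm), inv_mul_cancel_left]
    exact inv_mem hm
  have hbr : ∀ x y z, b x (y * z) = b x y * b x z := fun x y z => by
    rw [hb_inv, hbl, mul_inv, ← hb_inv, ← hb_inv]
  have hbr' : ∀ x, ∀ {d : T}, d ∈ D → b x d = 1 := fun x {d} hd => by
    rw [hb_inv, hbD hd, inv_one]
  have hsadd : ∀ x y, ∃ d ∈ D, s x * s y = s (x + y) * d := fun x y =>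
    ⟨_, hs.add x y, by group⟩
  let β : F → F → ↥D ⧸ K := fun x y => b (s x) (s y)
  let τ0 : F → (↥D ⧸ K) →* C3 := fun z => QuotientGroup.lift K
    (MonoidHom.mk' (fun d : D => (⟨⁅(d : T), s z⁆, comm_mem_C3 d.2 _⟩ : C3))
      (fun d e => Subtype.ext (comm_D_mul_left h4 d.2 e.2 _)))
    (fun d hd => Subtype.ext (commutatorElement_eq_one_iff_mul_comm.mpr
      (C3_central h4 (Subgroup.mem_subgroupOf.mp hd) _)))
  let φD : D →* D := MonoidHom.mk' (fun d => ⟨φ d, by
      have h1 := Subgroup.mem_map_of_mem φ.toMonoidHom d.2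
      rw [Subgroup.characteristic_iff_map_eq.mp (inferInstanceAs (commutator T).Characteristic) φ] at h1
      exact h1⟩) (fun d e => Subtype.ext (map_mul φ _ _))
  have hφC3 : ∀ c ∈ C3, φ c ∈ C3 := fun c hc => by
    have h1 := Subgroup.mem_map_of_mem φ.toMonoidHom hc
    rw [Subgroup.characteristic_iff_map_eq.mp (inferInstanceAs (⁅commutator T, (⊤ : Subgroup T)⁆).Characteristic) φ] at h1
    exact h1
  let σ : (↥D ⧸ K) →* ↥D ⧸ K := QuotientGroup.map K K φD fun d hd => hφC3 _ hd
  let ρ : C3 →* C3 :=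
    MonoidHom.mk' (fun c => ⟨φ c, hφC3 _ c.2⟩) (fun c e => Subtype.ext (map_mul φ _ _))
  have hsθ : ∀ x, ∃ d ∈ D, φ (s x) = s (θ * x) * d := fun x => ⟨_, hs.twist x, by group⟩
  have hgenW : Subgroup.closure (Set.range fun q : F × F => β q.1 q.2) = ⊤ := by
    refine eq_top_iff.mpr fun w _ => ?_
    obtain ⟨⟨d, hd⟩, rfl⟩ := QuotientGroup.mk_surjective w
    revert hd
    suffices hall : ∀ d ∈ Subgroup.closure (commutatorSet T), ∀ hd : d ∈ D,
        (QuotientGroup.mk (⟨d, hd⟩ : D) : ↥D ⧸ K) ∈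
          Subgroup.closure (Set.range fun q : F × F => β q.1 q.2) by
      intro hd _
      exact hall d ((commutator_eq_closure T).le hd) hd
    intro d hd
    induction hd using Subgroup.closure_induction with
    | mem v hv =>
      intro _
      obtain ⟨x, y, rfl⟩ := hv
      obtain ⟨x', hx⟩ := hs.surj x
      obtain ⟨y', hy⟩ := hs.surj y
      refine Subgroup.subset_closure ⟨(x', y'), ?_⟩
      show b (s x') (s y') = b x y
      have ex : x = s x' * ((s x')⁻¹ * x) := by group
      have ey : y = s y' * ((s y')⁻¹ * y) := by group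
      rw [ex, ey, hbl, hbD hx, mul_one, hbr, hbr' _ hy, mul_one]
    | one => intro _; exact one_mem _
    | mul v v' hv hv' ihv ihv' =>
      intro _
      exact mul_mem (ihv ((commutator_eq_closure T).ge hv)) (ihv' ((commutator_eq_closure T).ge hv'))
    | inv v hv ihv => intro _; exact inv_mem (ihv ((commutator_eq_closure T).ge hv))
  have hβ : Prod2 θ β σ :=
    { add_left := fun x y z => by
        obtain ⟨d, hd, e⟩ := hsadd x y
        show b _ _ = b _ _ * b _ _
        rw [← hbl, e, hbl, hbD hd, mul_one]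
      add_right := fun x y z => by
        obtain ⟨d, hd, e⟩ := hsadd y z
        show b _ _ = b _ _ * b _ _
        rw [← hbr, e, hbr, hbr' _ hd, mul_one]
      alt := fun x => (QuotientGroup.eq_one_iff _).mpr (Subgroup.mem_subgroupOf.mpr (by
        show ⁅s x, s x⁆ ∈ C3
        rw [commutatorElement_self]; exact one_mem _))
      equiv := fun x y => by
        obtain ⟨d, hd, e⟩ := hsθ x
        obtain ⟨d', hd', e'⟩ := hsθ y
        show b _ _ = _
        have h1 : σ (β x y) = b (φ (s x)) (φ (s y)) :=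
          congrArg QuotientGroup.mk (Subtype.ext (map_commutatorElement φ (s x) (s y)))
        rw [h1, e, e', hbl, hbr, hbr, hbD hd, hbD hd, hbr' _ hd', one_mul, mul_one, mul_one]
      span := hgenW }
  have hτl : ∀ v w z, τ0 z (v * w) = τ0 z v * τ0 z w := fun v w z => map_mul _ v w
  have hτr : ∀ w y z, τ0 (y + z) w = τ0 y w * τ0 z w := fun w y z => by
    obtain ⟨d, rfl⟩ := QuotientGroup.mk_surjective w
    obtain ⟨e, he, e1⟩ := hsadd y z
    refine Subtype.ext ?_
    show ⁅(d : T), s (y + z)⁆ = ⁅(d : T), s y⁆ * ⁅(d : T), s z⁆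
    rw [← comm_D_mul_right h4 d.2, e1, comm_D_mul_right h4 d.2, comm_D_D h4 d.2 he, mul_one]
  have hρ : ∀ w z, τ0 (θ * z) (σ w) = ρ (τ0 z w) := fun w z => by
    obtain ⟨d, rfl⟩ := QuotientGroup.mk_surjective w
    obtain ⟨e, he, e1⟩ := hsθ z
    refine Subtype.ext ?_
    show ⁅φ (d : T), s (θ * z)⁆ = φ ⁅(d : T), s z⁆
    have hφd : φ (d : T) ∈ commutator T := (φD d).2
    rw [map_commutatorElement φ, e1, comm_D_mul_right h4 hφd, comm_D_D h4 hφd he, mul_one]
  have hjac : ∀ x y z, τ0 z (β x y) * τ0 x (β y z) * τ0 y (β z x) = 1 := fun x y z =>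
    Subtype.ext (jacobi h4 (s x) (s y) (s z))
  have hgenU : Subgroup.closure (Set.range fun q : F × F × F => τ0 q.2.2 (β q.1 q.2.1)) = ⊤ := by
    set V := Subgroup.closure (Set.range fun q : F × F × F => τ0 q.2.2 (β q.1 q.2.1)) with hV
    have h1 : ∀ z, ∀ w, τ0 z w ∈ V := by
      intro z w
      have hw : w ∈ Subgroup.closure (Set.range fun q : F × F => β q.1 q.2) := hgenW ▸ trivial
      induction hw using Subgroup.closure_induction with
      | mem v hv => obtain ⟨⟨x, y⟩, rfl⟩ := hv; exact Subgroup.subset_closure ⟨(x, y, z), rfl⟩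
      | one => rw [map_one]; exact one_mem _
      | mul v v' _ _ hv hv' => rw [map_mul]; exact mul_mem hv hv'
      | inv v _ hv => rw [map_inv]; exact inv_mem hv
    refine eq_top_iff.mpr fun u _ => ?_
    have h2 : C3 ≤ V.map C3.subtype := by
      refine Subgroup.commutator_le.mpr fun d hd t _ => ?_
      obtain ⟨z, hz⟩ := hs.surj t
      refine ⟨τ0 z (QuotientGroup.mk (⟨d, hd⟩ : D)), h1 _ _, ?_⟩
      show ⁅d, s z⁆ = ⁅d, t⁆
      conv_rhs => rw [← mul_inv_cancel_left (s z) t, comm_D_mul_right h4 hd, comm_D_D h4 hd hz,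
        mul_one]
    obtain ⟨v, hv, e⟩ := h2 u.2
    rwa [show u = v from Subtype.ext e.symm]
  have hexp : ∀ u : C3, u ^ p = 1 := by
    intro u
    have hu : u ∈ Subgroup.closure (Set.range fun q : F × F × F => τ0 q.2.2 (β q.1 q.2.1)) :=
      hgenU ▸ trivial
    induction hu using Subgroup.closure_induction with
    | mem v hv =>
      obtain ⟨⟨x, y, z⟩, rfl⟩ := hv
      have e1 : ∀ n : ℕ, τ0 z (β x y) ^ n = τ0 ((n : F) * z) (β x y) := by
        intro n
        induction n with
        | zero =>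
          have h0 := hτr (β x y) 0 0
          rw [add_zero] at h0
          rw [pow_zero, Nat.cast_zero, zero_mul]
          exact mul_right_cancel (b := τ0 0 (β x y)) (by rw [one_mul]; exact h0)
        | succ n ih => rw [pow_succ, ih, Nat.cast_succ, add_mul, one_mul, hτr]
      show τ0 z (β x y) ^ p = 1
      rw [e1, CharP.cast_eq_zero F p, ← Nat.cast_zero, ← e1, pow_zero]
    | one => exact one_pow _
    | mul v v' _ _ hv hv' => rw [mul_pow, hv, hv', one_mul]
    | inv v _ hv => rw [inv_pow, hv, inv_one]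
  have hW : Nat.card (↥D ⧸ K) < p ^ a := by
    rw [← hidx]
    obtain ⟨y, hy⟩ : ∃ y, y ∉ D := by
      by_contra hcon
      push Not at hcon
      exact hne (eq_top_iff.mpr fun t _ => hcon t)
    let f : T →* ↥D ⧸ K := MonoidHom.mk' (fun t => b t y) (fun t t' => hbl t t' y)
    have hsur : Function.Surjective f := fun w => by
      obtain ⟨⟨d, hd⟩, rfl⟩ := QuotientGroup.mk_surjective w
      obtain ⟨t, ht⟩ := hs.cls y hy d hd
      exact ⟨t, congrArg QuotientGroup.mk (Subtype.ext ht)⟩
    have hlt : D < f.ker := by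
      refine lt_of_le_of_ne (fun d hd => hbD hd y) (fun e => hy ?_)
      rw [e]
      show b y y = 1
      exact (QuotientGroup.eq_one_iff _).mpr (Subgroup.mem_subgroupOf.mpr (by
        show ⁅y, y⁆ ∈ C3
        rw [commutatorElement_self]; exact one_mem _))
    calc Nat.card (↥D ⧸ K) = f.ker.index := by
          rw [Subgroup.index_ker, MonoidHom.range_eq_top.mpr hsur, Subgroup.card_top]
      _ < D.index := Subgroup.index_strictAnti hlt
  have hU : Nat.card C3 < p ^ a := hidx ▸ centre_small hs.cls hne hC3D (fun z hz t => C3_central h4 hz t)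
  refine (Subgroup.eq_bot_iff_forall _).mpr fun c hc => ?_
  exact congrArg Subtype.val (no_class_three h hp hW hU hexp hβ (fun w z => τ0 z w) ρ
    hτl hτr hρ hjac hgenU ⟨c, hc⟩)

theorem class_two (h : Gen F p a θ) (hp : 3 ≤ p) (hT : IsPGroup p T)
    (hidx : (commutator T).index = p ^ a) (hs : Coords T θ s φ) :
    ⁅commutator T, (⊤ : Subgroup T)⁆ = ⊥ := by
  haveI := hT.isNilpotent
  set C4 := ⁅⁅commutator T, (⊤ : Subgroup T)⁆, (⊤ : Subgroup T)⁆ with hC4
  haveI : C4.Normal := by rw [hC4]; infer_instance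
  haveI : C4.Characteristic := by rw [hC4]; infer_instance
  have hle : C4 ≤ commutator T := by
    rw [hC4, commutator_def]; exact Subgroup.commutator_mono le_top le_rfl
  have hsur := QuotientGroup.mk'_surjective C4
  have hmapD : (commutator T).map (QuotientGroup.mk' C4) = commutator (T ⧸ C4) := by
    rw [commutator_def, commutator_def, Subgroup.map_commutator,
      Subgroup.map_top_of_surjective _ hsur]
  have hmem : ∀ t : T, (t : T ⧸ C4) ∈ commutator (T ⧸ C4) ↔ t ∈ commutator T := by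
    intro t
    rw [← hmapD, ← QuotientGroup.mk'_apply, ← Subgroup.mem_comap, Subgroup.comap_map_eq,
      QuotientGroup.ker_mk', sup_eq_left.mpr hle]
  let φ' : (T ⧸ C4) ≃* T ⧸ C4 :=
    QuotientGroup.congr C4 C4 φ (Subgroup.characteristic_iff_map_eq.mp inferInstance φ)
  have hs' : Coords (T ⧸ C4) θ (fun x => (s x : T ⧸ C4)) φ' :=
    { add := fun x y => (hmem _).mpr (hs.add x y)
      surj := fun t => by
        obtain ⟨t, rfl⟩ := hsur t
        obtain ⟨x, hx⟩ := hs.surj t
        exact ⟨x, (hmem _).mpr hx⟩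
      twist := fun x => (hmem _).mpr (hs.twist x)
      cls := fun y hy d hd => by
        obtain ⟨y, rfl⟩ := hsur y
        rw [← hmapD] at hd
        obtain ⟨d, hd, rfl⟩ := hd
        obtain ⟨t, ht⟩ := hs.cls y (fun e => hy ((hmem y).mpr e)) d hd
        exact ⟨(t : T ⧸ C4), congrArg (QuotientGroup.mk' C4) ht⟩ }
  have hidx' : (commutator (T ⧸ C4)).index = p ^ a := by
    rw [← hmapD, Subgroup.index_map_eq _ hsur (by rw [QuotientGroup.ker_mk']; exact hle), hidx]
  have hmap3 : (⁅commutator T, (⊤ : Subgroup T)⁆).map (QuotientGroup.mk' C4) =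
      ⁅commutator (T ⧸ C4), ⊤⁆ := by
    rw [Subgroup.map_commutator, hmapD, Subgroup.map_top_of_surjective _ hsur]
  have h4 : ⁅⁅commutator (T ⧸ C4), (⊤ : Subgroup (T ⧸ C4))⁆, (⊤ : Subgroup (T ⧸ C4))⁆ = ⊥ := by
    rw [← hmap3, ← Subgroup.map_top_of_surjective _ hsur, ← Subgroup.map_commutator, ← hC4,
      QuotientGroup.map_mk'_self]
  have h3 := C3_eq_bot_of_C4 h hp hidx' hs' h4
  rw [← hmap3, Subgroup.map_eq_bot_iff, QuotientGroup.ker_mk'] at h3
  exact eq_bot_of_le_commutator h3

/-- The conclusion: exponent `p`, with central derived subgroup. -/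
theorem exponent_eq (h : Gen F p a θ) (hp : 3 ≤ p) (hT : IsPGroup p T)
    (hidx : (commutator T).index = p ^ a) (hs : Coords T θ s φ) :
    (∀ t : T, t ^ p = 1) ∧ ∀ d ∈ commutator T, ∀ t, d * t = t * d := by
  have h3 := class_two h hp hT hidx hs
  have hcen : ∀ d ∈ commutator T, ∀ t, d * t = t * d := fun d hd t => by
    have h1 := comm_mem_C3 hd t
    rw [h3, Subgroup.mem_bot, commutatorElement_eq_one_iff_mul_comm] at h1
    exact h1
  have hadd : ∀ x y, ∃ d ∈ commutator T, s x * s y = s (x + y) * d := fun x y =>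
    ⟨_, hs.add x y, by group⟩
  have hs0 : s 0 ∈ commutator T := by
    obtain ⟨d, hd, e⟩ := hadd 0 0
    rw [add_zero, mul_right_inj] at e
    exact e ▸ hd
  have hpd : ∀ t : T, t ^ p ∈ commutator T := by
    intro t
    obtain ⟨x, hx⟩ := hs.surj t
    have e1 : (Abelianization.of t) = Abelianization.of (s x) :=
      ((QuotientGroup.eq).mpr hx).symm
    have e2 : ∀ n : ℕ, (Abelianization.of (s x)) ^ n = Abelianization.of (s ((n : F) * x)) := by
      intro n
      induction n with
      | zero =>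
        rw [pow_zero, Nat.cast_zero, zero_mul]
        exact ((QuotientGroup.eq_one_iff _).mpr hs0).symm
      | succ n ih =>
        obtain ⟨d, hd, e⟩ := hadd ((n : F) * x) x
        rw [pow_succ, ih, ← map_mul, e, map_mul, Nat.cast_succ, add_mul, one_mul,
          show Abelianization.of d = 1 from (QuotientGroup.eq_one_iff _).mpr hd, mul_one]
    refine (QuotientGroup.eq_one_iff _).mp (?_ : Abelianization.of (t ^ p) = 1)
    rw [map_pow, e1, e2, CharP.cast_eq_zero F p, ← Nat.cast_zero, ← e2, pow_zero]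
  have hexpD : ∀ d ∈ commutator T, d ^ p = 1 := by
    intro d hd
    rw [commutator_eq_closure] at hd
    induction hd using Subgroup.closure_induction with
    | mem v hv =>
      obtain ⟨x, y, rfl⟩ := hv
      have e : ∀ n : ℕ, ⁅x, y⁆ ^ n = ⁅x ^ n, y⁆ := by
        intro n
        induction n with
        | zero => simp
        | succ n ih =>
          rw [pow_succ, ih, pow_succ' x, comm_mul_left,
            ← hcen _ (comm_mem_D (x ^ n) y) x, mul_inv_cancel_right]
      rw [e, commutatorElement_eq_one_iff_mul_comm]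
      exact hcen _ (hpd x) y
    | one => exact one_pow _
    | mul v v' hv hv' ihv ihv' =>
      rw [(show Commute v v' from hcen v (commutator_eq_closure T ▸ hv) v').mul_pow, ihv, ihv',
        one_mul]
    | inv v _ ihv => rw [inv_pow, ihv, inv_one]
  refine ⟨fun t => ?_, hcen⟩
  obtain ⟨k, hk⟩ := h.exists_pow (neg_ne_zero.mpr (one_ne_zero (α := F)))
  let ψ : MulAut T := (φ : MulAut T) ^ k
  have hψ : ∀ t : T, ∃ d ∈ commutator T, ψ t = t⁻¹ * d := by
    have hit : ∀ j, ∀ x, (s (θ ^ j * x))⁻¹ * ((φ : MulAut T) ^ j) (s x) ∈ commutator T := by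
      intro j
      induction j with
      | zero => intro x; simp
      | succ j ih =>
        intro x
        have h1 := hs.twist (θ ^ j * x)
        have h2 := Subgroup.mem_map_of_mem φ.toMonoidHom (ih x)
        rw [Subgroup.characteristic_iff_map_eq.mp (inferInstanceAs (commutator T).Characteristic) φ]
          at h2
        have h3 := mul_mem h1 h2
        simp only [MulEquiv.coe_toMonoidHom, map_mul, map_inv, mul_assoc,
          mul_inv_cancel_left] at h3
        rw [pow_succ' θ, mul_assoc, pow_succ']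
        exact h3
    intro t
    obtain ⟨x, hx⟩ := hs.surj t
    have h1 := hit k x
    rw [hk, neg_one_mul] at h1
    have h2 : s x * s (-x) ∈ commutator T := by
      obtain ⟨d, hd, e⟩ := hadd x (-x)
      rw [add_neg_cancel] at e
      exact e ▸ mul_mem hs0 hd
    have h3 := Subgroup.mem_map_of_mem (ψ : T ≃* T).toMonoidHom hx
    rw [Subgroup.characteristic_iff_map_eq.mp (inferInstanceAs (commutator T).Characteristic) ψ]
      at h3
    simp only [MulEquiv.coe_toMonoidHom, map_mul, map_inv] at h3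
    refine ⟨t * ψ t, ?_, by group⟩
    have e : t * ψ t = s x * ((s x)⁻¹ * t) * (s x)⁻¹ * (s x * s (-x)) *
        ((s (-x))⁻¹ * ψ (s x)) * ((ψ (s x))⁻¹ * ψ t) := by group
    rw [e]
    exact mul_mem (mul_mem (mul_mem (Subgroup.Normal.conj_mem inferInstance _ hx _) h2) h1) h3
  have hfix : ∀ d ∈ commutator T, ψ d = d := by
    intro d hd
    rw [commutator_eq_closure] at hd
    induction hd using Subgroup.closure_induction with
    | mem v hv =>
      obtain ⟨x, y, rfl⟩ := hv
      obtain ⟨d, hd, ex⟩ := hψ x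
      obtain ⟨e, he, ey⟩ := hψ y
      have hl : ∀ a b c : T, ⁅a * b, c⁆ = ⁅b, c⁆ * ⁅a, c⁆ := fun a b c => by
        rw [comm_mul_left, ← hcen _ (comm_mem_D b c) a, mul_inv_cancel_right]
      have hr : ∀ a b c : T, ⁅a, b * c⁆ = ⁅a, b⁆ * ⁅a, c⁆ := fun a b c => by
        rw [comm_mul_right, ← hcen _ (comm_mem_D a c) b, mul_inv_cancel_right]
      have hz : ∀ a ∈ commutator T, ∀ b : T, ⁅a, b⁆ = 1 ∧ ⁅b, a⁆ = 1 := fun a ha b =>
        ⟨commutatorElement_eq_one_iff_mul_comm.mpr (hcen a ha b),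
          commutatorElement_eq_one_iff_mul_comm.mpr (hcen a ha b).symm⟩
      have i1 : ∀ a c : T, ⁅a⁻¹, c⁆ = ⁅a, c⁆⁻¹ := fun a c => by
        rw [eq_inv_iff_mul_eq_one, ← hl, mul_inv_cancel, commutatorElement_one_left]
      have i2 : ∀ a c : T, ⁅a, c⁻¹⁆ = ⁅a, c⁆⁻¹ := fun a c => by
        rw [eq_inv_iff_mul_eq_one, ← hr, inv_mul_cancel, commutatorElement_one_right]
      rw [map_commutatorElement (ψ : T ≃* T), ex, ey, hl, hr, hr, (hz d hd _).1, (hz d hd _).1,
        (hz e he _).2, i1, i2, inv_inv, one_mul, mul_one, one_mul]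
    | one => exact map_one _
    | mul v v' _ _ hv hv' => rw [map_mul, hv, hv']
    | inv v _ hv => rw [map_inv, hv]
  obtain ⟨d, hd, e⟩ := hψ t
  have h1 : ψ (t ^ p) = (t ^ p)⁻¹ := by
    rw [map_pow, e, (show Commute t⁻¹ d from (hcen d hd t⁻¹).symm).mul_pow, hexpD d hd, mul_one,
      inv_pow]
  rw [hfix _ (hpd t)] at h1
  obtain ⟨m, hm⟩ := hT t
  have h2 : (t ^ p) ^ 2 = 1 := by rw [pow_two]; exact mul_eq_one_iff_eq_inv.mpr h1
  have h3 : (t ^ p) ^ p ^ m = 1 := by rw [← pow_mul, mul_comm p, pow_mul, hm, one_pow]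
  have hcop : Nat.Coprime 2 (p ^ m) := Nat.Coprime.pow_right m
    ((Nat.coprime_primes Nat.prime_two (Fact.out : p.Prime)).mpr (by omega))
  have h4 := pow_gcd_eq_one.mpr ⟨h2, h3⟩
  rwa [hcop.gcd_eq_one, pow_one] at h4

end Main

end CfsgLib.OneException
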