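import Cfsg.Agent.Lib.OneException.Base
import Cfsg.Agent.Lib.OneException.Lie
import Cfsg.Agent.Lib.PSolvable.Omega
import Cfsg.Agent.Lib.OddConseq.Unconditional

/-!
The case where the derived subgroup has two elements modulo the kernel.
-/

set_option autoImplicit false
set_option linter.unusedSectionVars false
set_option linter.style.haveILetI false

open scoped commutatorElement
open Cfsg

namespace CfsgLib.OneException

theorem le_frattini_of_two {T : Type*} [Group T] [Finite T] (hT : IsPGroup 2 T)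
    (P P0 : Subgroup T) [P.Normal] [P0.Normal] (hle : P0 ≤ P)
    (hidx : ∀ a ∈ P, a ∉ P0 → ∀ b ∈ P, b ∉ P0 → a * b ∈ P0) (hsq : ∀ z : T, z * z ∈ P)
    (hcm : ∀ a b : T, ⁅a, b⁆ ∈ P) (hcent : ∀ z : T, (∀ u : T, ⁅z, u⁆ ∈ P0) → z ∈ P)
    (y : T) (hy : y ∈ P) (hyn : y ∉ P0) (hsur : ∀ k ∈ P0, ∃ s : T, ⁅s, y⁆ = k) :
    P0 ≤ (frattini ↥P).map P.subtype := by
  haveI := hT.isNilpotent
  set Φ := (frattini ↥P).map P.subtype with hΦ
  haveI : Φ.Normal := by rw [hΦ]; infer_instance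
  obtain ⟨hcomP, hsqP⟩ := CfsgLib.PSolvable.commutator_le_frattini (p := 2) (hT.to_subgroup P)
  have hΦsq : ∀ a ∈ P, a * a ∈ Φ := fun a ha =>
    ⟨⟨a, ha⟩ ^ 2, hsqP _, by simp [pow_two]⟩
  have hΦcom : ∀ a ∈ P, ∀ b ∈ P, ⁅a, b⁆ ∈ Φ := fun a ha b hb =>
    ⟨⁅(⟨a, ha⟩ : P), ⟨b, hb⟩⁆,
      hcomP (Subgroup.commutator_mem_commutator (Subgroup.mem_top _) (Subgroup.mem_top _)), rfl⟩
  set Q := Φ ⊔ ⁅P0, (⊤ : Subgroup T)⁆ with hQ
  haveI : Q.Normal := by rw [hQ]; infer_instance
  let q := QuotientGroup.mk' Q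
  have hq1 : ∀ {x : T}, x ∈ Q → q x = 1 := fun hx => (QuotientGroup.eq_one_iff _).mpr hx
  have hc0 : ∀ k ∈ P0, ∀ t, q k * q t = q t * q k := fun k hk t => by
    rw [← commutatorElement_eq_one_iff_mul_comm, ← map_commutatorElement]
    exact hq1 (Subgroup.mem_sup_right (Subgroup.commutator_mem_commutator hk (Subgroup.mem_top t)))
  have hyz : ∀ z, q z * q y = q y * q z := by
    intro z
    by_cases hz : ∀ u : T, ⁅z, u⁆ ∈ P0
    · rw [← commutatorElement_eq_one_iff_mul_comm, ← map_commutatorElement]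
      exact hq1 (Subgroup.mem_sup_left (hΦcom z (hcent z hz) y hy))
    push Not at hz
    obtain ⟨u, hu⟩ := hz
    set c := ⁅z, u⁆ with hc
    have hk : ∀ w ∈ P, w ∉ P0 → y⁻¹ * w ∈ P0 := fun w hw hw' =>
      hidx _ (inv_mem hy) (fun e => hyn (by simpa using inv_mem e)) w hw hw'
    have hcomc : ∀ w ∈ P, w ∉ P0 → q z * q w = q w * q z → q z * q y = q y * q z := by
      intro w hw hw' e
      have h1 : Commute (q z) (q (y⁻¹ * w)) := (hc0 _ (hk w hw hw') z).symm
      have h2 : Commute (q z) (q w * (q (y⁻¹ * w))⁻¹) := (show Commute (q z) (q w) from e).mul_right h1.inv_right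
      rwa [map_mul, map_inv, mul_inv_rev, inv_inv, mul_inv_cancel_left] at h2
    by_cases hz2 : z * z ∈ P0
    · refine hcomc c (hcm z u) hu ?_
      have hcc : q c * q c = 1 := by rw [← map_mul]; exact hq1 (Subgroup.mem_sup_left (hΦsq c (hcm z u)))
      have h1 : q c = q z * q u * (q z)⁻¹ * (q u)⁻¹ := by
        rw [hc, map_commutatorElement, commutatorElement_def]
      have h2 : q z * q z * q u = q u * (q z * q z) := by
        rw [← map_mul q z z]; exact hc0 _ hz2 u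
      calc q z * q c = q z * q z * q u * (q z)⁻¹ * (q u)⁻¹ := by rw [h1]; group
        _ = q u * (q z * q z) * (q z)⁻¹ * (q u)⁻¹ := by rw [h2]
        _ = (q c)⁻¹ * q z := by rw [h1]; group
        _ = q c * q z := by rw [inv_eq_of_mul_eq_one_right hcc]
    · refine hcomc (z * z) (hsq z) hz2 ?_
      rw [map_mul, mul_assoc]
  have hstep : P0 ≤ Q := fun k hk => by
    obtain ⟨s, rfl⟩ := hsur k hk
    refine (QuotientGroup.eq_one_iff _).mp ?_
    show q ⁅s, y⁆ = 1
    rw [map_commutatorElement, commutatorElement_eq_one_iff_mul_comm]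
    exact hyz s
  let r := QuotientGroup.mk' Φ
  have hr : Function.Surjective r := QuotientGroup.mk'_surjective Φ
  have h1 : P0.map r ≤ ⁅P0.map r, (⊤ : Subgroup (T ⧸ Φ))⁆ := by
    rw [← Subgroup.map_top_of_surjective r hr, ← Subgroup.map_commutator]
    refine (Subgroup.map_mono hstep).trans ?_
    rw [hQ, Subgroup.map_sup]
    refine sup_le ?_ le_rfl
    rw [QuotientGroup.map_mk'_self]
    exact bot_le
  have h2 := eq_bot_of_le_commutator h1
  rw [Subgroup.map_eq_bot_iff, QuotientGroup.ker_mk'] at h2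
  exact h2

variable {G : Type*} [Group G] [Finite G] {K : Subgroup G} {g : G}

theorem Cls.solvable_two (h : Cls K g)
    (h2 : ∀ a ∈ commutator G, a ∉ K → g⁻¹ * a ∈ K) : Group.IsSolvable G := by
  classical
  haveI := h.normal
  obtain ⟨p, hp, hpow, hpel⟩ := h.exists_prime
  have hab := h.abelian
  have hidx : ∀ a ∈ commutator G, a ∉ K → ∀ b ∈ commutator G, b ∉ K → a * b ∈ K := by
    intro a ha ha' b hb hb'
    have e1 := h2 a⁻¹ (inv_mem ha) (fun e => ha' (by simpa using inv_mem e))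
    have e2 := h2 b hb hb'
    have := mul_mem (inv_mem e1) e2
    rwa [show (g⁻¹ * a⁻¹)⁻¹ * (g⁻¹ * b) = a * b by group] at this
  obtain rfl : p = 2 := by
    rcases hp.eq_two_or_odd' with hp2 | hp2
    · exact hp2
    exfalso
    obtain ⟨k, hk⟩ := hp2
    have e1 := hpow g h.mem
    have e2 : (g * g) ^ k ∈ K := pow_mem (hidx g h.mem h.notMem g h.mem h.notMem) k
    rw [hk, pow_succ, pow_mul, pow_two] at e1
    exact h.notMem ((Subgroup.mul_mem_cancel_left K e2).mp e1)
  haveI := Fact.mk hp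
  have hsqN : ∀ x : G, x * x ∈ commutator G := by
    intro x
    refine h.cent _ fun w => ?_
    have hc := comm_mem x w
    by_cases hcK : ⁅x, w⁆ ∈ K
    · rw [show ⁅x * x, w⁆ = x * ⁅x, w⁆ * x⁻¹ * ⁅x, w⁆ by simp only [commutatorElement_def]; group]
      exact mul_mem (Subgroup.Normal.conj_mem inferInstance _ hcK x) hcK
    · rw [show ⁅x * x, w⁆ = x * ⁅x, w⁆ * x⁻¹ * ⁅x, w⁆ by simp only [commutatorElement_def]; group]
      refine hidx _ (Subgroup.Normal.conj_mem inferInstance _ hc x) (fun e => hcK ?_) _ hc hcK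
      have := Subgroup.Normal.conj_mem h.normal _ e x⁻¹
      rwa [show x⁻¹ * (x * ⁅x, w⁆ * x⁻¹) * x⁻¹⁻¹ = ⁅x, w⁆ by group] at this
  have hGK : IsPGroup 2 (G ⧸ K) := by
    intro q
    obtain ⟨x, rfl⟩ := QuotientGroup.mk_surjective q
    refine ⟨2, ?_⟩
    rw [← QuotientGroup.mk_pow, QuotientGroup.eq_one_iff,
      show x ^ 2 ^ 2 = (x * x) ^ 2 by rw [← pow_two, ← pow_mul]; norm_num]
    exact hpow _ (hsqN x)
  obtain ⟨Pn⟩ := (inferInstance : Nonempty (Sylow 2 (commutator G)))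
  obtain ⟨S, hS⟩ := Pn.exists_comap_subtype_eq
  -- `G = SK`
  have hSK : ∀ x : G, ∃ s ∈ (S : Subgroup G), s⁻¹ * x ∈ K := by
    intro x
    let S' := S.mapSurjective (QuotientGroup.mk'_surjective K)
    have hmap : (⊤ : Subgroup (G ⧸ K)) = S' :=
      S'.3 (hGK.to_subgroup ⊤) le_top
    have hx : (x : G ⧸ K) ∈ (S : Subgroup G).map (QuotientGroup.mk' K) := by
      have : (x : G ⧸ K) ∈ (S' : Subgroup (G ⧸ K)) := hmap ▸ Subgroup.mem_top _
      exact this
    obtain ⟨s, hs, e⟩ := hx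
    exact ⟨s, hs, QuotientGroup.eq.mp e⟩
  -- the centralizer of `g`
  set n := Nat.card (G ⧸ K) with hn
  have hKg : Nat.card (commutator G) - Nat.card K = Nat.card K := by
    have hb : Nat.card ((commutator G).map (QuotientGroup.mk' K)) = 2 := by
      refine Nat.card_eq_two_iff.mpr ⟨1, ⟨(g : G ⧸ K), g, h.mem, rfl⟩, ?_, ?_⟩
      · intro e
        exact h.notMem ((QuotientGroup.eq_one_iff g).mp (congrArg Subtype.val e).symm)
      · refine Set.eq_univ_of_forall fun q => ?_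
        obtain ⟨y, hy, hq⟩ := q.2
        by_cases hyK : y ∈ K
        · exact Or.inl (Subtype.ext (hq ▸ (QuotientGroup.eq_one_iff y).mpr hyK))
        · refine Or.inr (Set.mem_singleton_iff.mpr (Subtype.ext ?_))
          rw [← hq]
          exact (QuotientGroup.eq.mpr (h2 y hy hyK)).symm
    rw [h.card_commutator, hb]
    omega
  have hC : Nat.card (Subgroup.centralizer ({g} : Set G)) = n := by
    have h1 := h.card_class
    rw [hKg, ← Subgroup.index_mul_card K, Subgroup.index_eq_card K, mul_comm (Nat.card (G ⧸ K))] at h1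
    exact Nat.eq_of_mul_eq_mul_left (Nat.card_pos (α := K)) h1
  obtain ⟨j, hj⟩ := IsPGroup.iff_card.mp hGK
  have hC2 : IsPGroup 2 (Subgroup.centralizer ({g} : Set G)) :=
    IsPGroup.of_card (n := j) (by rw [hC, hn, hj])
  obtain ⟨S₁, hS₁⟩ := hC2.exists_le_sylow
  obtain ⟨c, hc⟩ := MulAction.exists_smul_eq G S₁ S
  set y := c * g * c⁻¹ with hy
  have hyN := h.of_isConj (isConj_iff.mpr ⟨c, rfl⟩ : IsConj g y)
  have hconj : ∀ x ∈ Subgroup.centralizer ({g} : Set G), c * x * c⁻¹ ∈ (S : Subgroup G) := by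
    intro x hx
    rw [← hc, Sylow.coe_subgroup_smul]
    exact ⟨x, hS₁ hx, rfl⟩
  have hCy : Subgroup.centralizer ({y} : Set G) ≤
      (Subgroup.centralizer ({g} : Set G)).map (MulAut.conj c).toMonoidHom := by
    intro x hx
    rw [Subgroup.mem_centralizer_singleton_iff] at hx
    refine ⟨c⁻¹ * x * c, ?_, by simp [mul_assoc]⟩
    rw [SetLike.mem_coe, Subgroup.mem_centralizer_singleton_iff]
    calc c⁻¹ * x * c * g = c⁻¹ * (x * (c * g * c⁻¹)) * c := by group
      _ = c⁻¹ * (c * g * c⁻¹ * x) * c := by rw [hx]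
      _ = g * (c⁻¹ * x * c) := by group
  have hyS : y ∈ (S : Subgroup G) := hconj g (Subgroup.mem_centralizer_singleton_iff.mpr rfl)
  have hSP : Nat.card S = n * Nat.card ↥((S : Subgroup G) ⊓ K) := by
    rw [← card_map_mk_mul K (S : Subgroup G), show (S : Subgroup G).map (QuotientGroup.mk' K) = ⊤ from
      eq_top_iff.mpr fun q _ => by
        obtain ⟨x, rfl⟩ := QuotientGroup.mk_surjective q
        obtain ⟨s, hs, e⟩ := hSK x
        exact ⟨s, hs, QuotientGroup.eq.mpr e⟩, Subgroup.card_top]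
  have hcent' : ∀ s ∈ (S : Subgroup G), ⁅s, y⁆ ∈ (S : Subgroup G) ⊓ K := by
    intro s hs
    refine Subgroup.mem_inf.mpr ⟨?_, ?_⟩
    · exact mul_mem (mul_mem (mul_mem hs hyS) (inv_mem hs)) (inv_mem hyS)
    · have e1 : s * y * s⁻¹ ∈ commutator G ∧ s * y * s⁻¹ ∉ K :=
        h.of_isConj (isConj_iff.mpr ⟨s * c, by rw [hy]; group⟩)
      rw [commutatorElement_def]
      exact hidx _ e1.1 e1.2 _ (inv_mem hyN.1) fun e => hyN.2 (by simpa using inv_mem e)
  have hsur := exists_commutator_eq (S : Subgroup G) ((S : Subgroup G) ⊓ K) y hcent' (by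
    rw [hSP, mul_comm n]
    refine Nat.mul_le_mul_left _ ?_
    rw [← hC, ← Subgroup.card_map_of_injective (K := Subgroup.centralizer ({g} : Set G))
      (f := (MulAut.conj c).toMonoidHom) (fun u v e => (MulAut.conj c).injective e)]
    exact Subgroup.card_le_of_le (inf_le_right.trans hCy))
  -- pass to `S`
  let P : Subgroup ↥(S : Subgroup G) := (commutator G).subgroupOf S
  let P0 : Subgroup ↥(S : Subgroup G) := K.subgroupOf S
  have hfr : P0 ≤ (frattini ↥P).map P.subtype := by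
    refine le_frattini_of_two S.2 P P0 (fun x hx => h.le hx)
      (fun a ha ha' b hb hb' => hidx _ ha ha' _ hb hb') (fun z => hsqN _)
      (fun a b => comm_mem (a : G) b) (fun z hz => h.cent _ fun x => ?_) ⟨y, hyS⟩ hyN.1 hyN.2
      fun k hk => ?_
    · obtain ⟨s, hs, e⟩ := hSK x
      have e1 : ⁅(z : G), x⁆ = ⁅(z : G), s⁆ * (s * ⁅(z : G), s⁻¹ * x⁆ * s⁻¹) := by
        simp only [commutatorElement_def]; group
      show ⁅(z : G), x⁆ ∈ K
      rw [e1]
      refine mul_mem (hz ⟨s, hs⟩) (Subgroup.Normal.conj_mem inferInstance _ ?_ s)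
      rw [commutatorElement_def]
      exact mul_mem (Subgroup.Normal.conj_mem inferInstance _ e _) (inv_mem e)
    · obtain ⟨s, hs, e⟩ := hsur k ⟨k.2, hk⟩
      exact ⟨⟨s, hs⟩, Subtype.ext e⟩
  have hmemP : ∀ x : commutator G, x ∈ (Pn : Subgroup (commutator G)) ↔ (x : G) ∈ (S : Subgroup G) := by
    intro x; rw [← hS]; rfl
  let f : P →* ↥(Pn : Subgroup (commutator G)) :=
    MonoidHom.mk' (fun a => ⟨⟨((a : ↥(S : Subgroup G)) : G), a.2⟩, (hmemP _).mpr a.1.2⟩)
      (fun _ _ => rfl)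
  obtain ⟨R, hRn, hRK, hRc, hRp⟩ := h.core_of_frattini Pn f
    (fun x => ⟨⟨⟨((x : commutator G) : G), (hmemP _).mp x.2⟩, (x : commutator G).2⟩, rfl⟩)
    (fun x hxK hxP => by
      obtain ⟨a, ha, e⟩ := hfr (show (⟨(x : G), (hmemP x).mp hxP⟩ : ↥(S : Subgroup G)) ∈ P0 from hxK)
      exact ⟨a, ha, Subtype.ext (congrArg (fun t : ↥(S : Subgroup G) => (t : G)) e)⟩)
  exact solvable_of_core hab hRn hRK hRp
    (CfsgLib.OddOrder.odd_order_solvable (Nat.coprime_two_right.mp hRc))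

end CfsgLib.OneException
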