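import Cfsg.Agent.Lib.OneException.Digits
import Cfsg.Agent.Lib.OneException.Frobenius

/-!
An equivariant Lie product on a field generated by its units stops after two steps.
-/

set_option autoImplicit false
set_option linter.unusedSectionVars false
set_option linter.style.haveILetI false

namespace CfsgLib.OneException

open Finset

variable {F : Type*} [Field F] [Fintype F] {p a : ℕ} [Fact p.Prime] [CharP F p] {θ : F}

/-- An equivariant additive functional with a small source has exponent fixed by a proper power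
of the Frobenius. -/
theorem exists_fixing (h : Gen F p a θ) {W : Type*} [CommGroup W] [Finite W]
    (hWc : Nat.card W < p ^ a) (σ : W →* W) (g : W → F) (hg : ∀ v w, g (v * w) = g v + g w)
    {k : ℕ} (hk : ∀ w, g (σ w) = θ ^ k * g w) (hne : ∃ w, g w ≠ 0) :
    ∃ d, 0 < d ∧ d < a ∧ k * p ^ d ≡ k [MOD p ^ a - 1] := by
  classical
  obtain ⟨w₀, hw₀⟩ := hne
  let A : AddSubgroup F :=
    { carrier := {c | ∀ v ∈ Set.range g, c * v ∈ Set.range g}
      zero_mem' := fun v _ => ⟨1, by
        have h1 := hg 1 1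
        rw [mul_one] at h1
        simpa using h1⟩
      add_mem' := fun {c e} hc he v hv => by
        obtain ⟨w1, hw1⟩ := hc v hv
        obtain ⟨w2, hw2⟩ := he v hv
        exact ⟨w1 * w2, by rw [hg, hw1, hw2, add_mul]⟩
      neg_mem' := fun {c} hc v hv => by
        obtain ⟨w1, hw1⟩ := hc v hv
        refine ⟨w1⁻¹, ?_⟩
        have h1 := hg w1⁻¹ w1
        have h2 := hg 1 1
        rw [mul_one] at h2
        rw [inv_mul_cancel, show g 1 = 0 by simpa using h2] at h1
        rw [hw1] at h1
        linear_combination -h1 }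
  have hone : (1 : F) ∈ A := fun v hv => by rwa [one_mul]
  have hmul : ∀ {c e}, c ∈ A → e ∈ A → c * e ∈ A := fun hc he v hv => by
    rw [mul_assoc]; exact hc _ (he v hv)
  have hθ : θ ^ k ∈ A := by
    rintro _ ⟨w, rfl⟩
    exact ⟨σ w, hk w⟩
  have hpow : ∀ {c}, c ∈ A → ∀ n : ℕ, c ^ n ∈ A := fun hc n => by
    induction n with
    | zero => rw [pow_zero]; exact hone
    | succ n ih => rw [pow_succ]; exact hmul ih hc
  let S : Subfield F :=
    { carrier := A
      mul_mem' := hmul
      one_mem' := hone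
      add_mem' := A.add_mem
      zero_mem' := A.zero_mem
      neg_mem' := A.neg_mem
      inv_mem' := fun c hc => by
        rcases eq_or_ne c 0 with rfl | hc0
        · rw [inv_zero]; exact A.zero_mem
        · have : c⁻¹ = c ^ (Fintype.card F - 2) := by
            refine inv_eq_of_mul_eq_one_right ?_
            rw [← pow_succ', show Fintype.card F - 2 + 1 = Fintype.card F - 1 by
              have := Fintype.one_lt_card (α := F); omega, FiniteField.pow_card_sub_one_eq_one c hc0]
          rw [this]; exact hpow hc _ }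
  haveI : Fintype S := Fintype.ofFinite _
  have hcard : Fintype.card S ≤ Nat.card W := by
    rw [← Nat.card_eq_fintype_card]
    choose φ hφ using fun c : S => (c.2 : (c : F) ∈ A) (g w₀) ⟨w₀, rfl⟩
    refine Nat.card_le_card_of_injective φ fun c e he => Subtype.ext ?_
    have := congrArg g he
    rw [hφ, hφ] at this
    exact mul_right_cancel₀ hw₀ this
  have hdvd : Fintype.card S ∣ p ^ a := by
    rw [← h.card, ← Nat.card_eq_fintype_card, ← Nat.card_eq_fintype_card]
    exact S.toSubring.toAddSubgroup.card_addSubgroup_dvd_card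
  obtain ⟨d, hda, hd⟩ := (Nat.dvd_prime_pow (Fact.out : p.Prime)).mp hdvd
  refine ⟨d, ?_, ?_, ?_⟩
  · by_contra hd0
    have := Fintype.one_lt_card (α := S)
    rw [hd, show d = 0 by omega, pow_zero] at this
    omega
  · rcases Nat.lt_or_ge d a with h1 | h1
    · exact h1
    · have h2 : p ^ a ≤ p ^ d := Nat.pow_le_pow_right (Fact.out : p.Prime).pos h1
      omega
  · have h1 := congrArg (fun c : S => (c : F)) (FiniteField.pow_card (⟨θ ^ k, hθ⟩ : S))
    rw [hd] at h1
    simp only [SubmonoidClass.coe_pow] at h1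
    rw [← pow_mul] at h1
    exact h.pow_eq_pow.mp h1

/-- Coefficients of a biadditive map. -/
noncomputable def coef2 (p a : ℕ) (θ : F) (B : F → F → F) (i j : ℕ) : F :=
  coef p a θ (fun x => coef p a θ (B x) j) i

/-- Coefficients of a triadditive map. -/
noncomputable def coef3 (p a : ℕ) (θ : F) (T : F → F → F → F) (i j l : ℕ) : F :=
  coef p a θ (fun z => coef2 p a θ (fun x y => T x y z) i j) l

theorem coef_zero (i : ℕ) : coef p a θ (fun _ => 0) i = 0 := by simp [coef]

theorem coef_scale (h : Gen F p a θ) (L : F → F) (hL : ∀ x y, L (x + y) = L x + L y) (c : F)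
    {i : ℕ} (hi : i < a) : coef p a θ (fun x => L (c * x)) i = c ^ p ^ i * coef p a θ L i := by
  rw [show (fun x => L (c * x)) =
      fun x => ∑ l ∈ range a, (coef p a θ L l * c ^ p ^ l) * x ^ p ^ l from funext fun x => by
    rw [eq_sum_coef h L hL (c * x)]
    exact sum_congr rfl fun l _ => by rw [mul_pow, mul_assoc],
    coef_sum h _ hi, mul_comm]

theorem coef_lin (s : Finset ℕ) (c : ℕ → F) (L : ℕ → F → F) (i : ℕ) :
    coef p a θ (fun x => ∑ r ∈ s, c r * L r x) i = ∑ r ∈ s, c r * coef p a θ (L r) i := by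
  simp only [coef, mul_sum, mul_neg, sum_neg_distrib]
  rw [sum_comm]
  exact congrArg Neg.neg (sum_congr rfl fun r _ => sum_congr rfl fun j _ => by ring)

theorem coef_additive (L : F → F → F) (hL : ∀ x y z, L (x + y) z = L x z + L y z) (i : ℕ)
    (x y : F) : coef p a θ (L (x + y)) i = coef p a θ (L x) i + coef p a θ (L y) i := by
  rw [show L (x + y) = fun z => L x z + L y z from funext (hL x y), coef_add]

theorem coef2_comm (B : F → F → F) (i j : ℕ) :
    coef2 p a θ (fun x y => B y x) i j = coef2 p a θ B j i := by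
  simp only [coef2, coef, mul_neg, sum_neg_distrib, neg_neg, mul_sum]
  rw [sum_comm]
  exact sum_congr rfl fun _ _ => sum_congr rfl fun _ _ => by ring

/-- The scaling of the coefficients of a biadditive map. -/
theorem coef2_scale (h : Gen F p a θ) (B : F → F → F)
    (h1 : ∀ x y z, B (x + y) z = B x z + B y z) (h2 : ∀ x y z, B x (y + z) = B x y + B x z)
    (c : F) {i j : ℕ} (hi : i < a) (hj : j < a) :
    coef2 p a θ (fun x y => B (c * x) (c * y)) i j =
      c ^ (p ^ i + p ^ j) * coef2 p a θ B i j := by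
  simp only [coef2]
  rw [show (fun x => coef p a θ (fun y => B (c * x) (c * y)) j) =
      fun x => c ^ p ^ j * (fun x => coef p a θ (B x) j) (c * x) from
    funext fun x => coef_scale h (B (c * x)) (h2 _) c hj, coef_mul,
    coef_scale h (fun x => coef p a θ (B x) j) (coef_additive B h1 j) c hi, pow_add]
  ring

theorem coef3_scale (h : Gen F p a θ) (T : F → F → F → F)
    (h1 : ∀ x y z w, T (x + y) z w = T x z w + T y z w)
    (h2 : ∀ x y z w, T x (y + z) w = T x y w + T x z w)
    (h3 : ∀ x y z w, T x y (z + w) = T x y z + T x y w)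
    (c : F) {i j l : ℕ} (hi : i < a) (hj : j < a) (hl : l < a) :
    coef3 p a θ (fun x y z => T (c * x) (c * y) (c * z)) i j l =
      c ^ (p ^ i + p ^ j + p ^ l) * coef3 p a θ T i j l := by
  simp only [coef3]
  rw [show (fun z => coef2 p a θ (fun x y => T (c * x) (c * y) (c * z)) i j) =
      fun z => c ^ (p ^ i + p ^ j) * (fun z => coef2 p a θ (fun x y => T x y z) i j) (c * z) from
    funext fun z => coef2_scale h (fun x y => T x y (c * z)) (fun _ _ _ => h1 _ _ _ _)
      (fun _ _ _ => h2 _ _ _ _) c hi hj, coef_mul,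
    coef_scale h (fun z => coef2 p a θ (fun x y => T x y z) i j) _ c hl, pow_add _ (p ^ i + p ^ j)]
  · ring
  · intro z w
    simp only [coef2]
    rw [show (fun x => coef p a θ (fun y => T x y (z + w)) j) = fun x =>
        coef p a θ (fun y => T x y z) j + coef p a θ (fun y => T x y w) j from
      funext fun x => by rw [← coef_add]; exact congrArg (coef p a θ · j) (funext fun y => h3 x y z w),
      coef_add]

/-- The projection of an additive functional to an eigenvalue of `σ`. -/
noncomputable def proj {W : Type*} [CommGroup W] (p a : ℕ) (θ : F) (σ : W →* W) (g : W → F)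
    (k : ℕ) (w : W) : F :=
  -∑ r ∈ range (p ^ a - 1), (θ ^ k)⁻¹ ^ r * g ((⇑σ)^[r] w)

theorem proj_mul {W : Type*} [CommGroup W] (σ : W →* W) (g : W → F)
    (hg : ∀ v w, g (v * w) = g v + g w) (k : ℕ) (v w : W) :
    proj p a θ σ g k (v * w) = proj p a θ σ g k v + proj p a θ σ g k w := by
  simp only [proj, iterate_map_mul, hg, mul_add, sum_add_distrib, neg_add]

theorem proj_apply (h : Gen F p a θ) {W : Type*} [CommGroup W] (σ : W →* W)
    (hσ : ∀ w, (⇑σ)^[p ^ a - 1] w = w) (g : W → F) (k : ℕ) (w : W) :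
    proj p a θ σ g k (σ w) = θ ^ k * proj p a θ σ g k w := by
  have hne : θ ^ k ≠ 0 := pow_ne_zero _ h.ne_zero
  let f : ℕ → F := fun r => (θ ^ k)⁻¹ ^ r * g ((⇑σ)^[r] w)
  have hf0 : f (p ^ a - 1) = f 0 := by
    simp only [f, inv_pow, hσ, Function.iterate_zero, id_eq]
    rw [pow_pow_comm θ k, h.pow_eq_one, one_pow, inv_one, pow_zero, inv_one]
  have hshift : ∑ r ∈ range (p ^ a - 1), f (r + 1) = ∑ r ∈ range (p ^ a - 1), f r := by
    have h1 := sum_range_succ' f (p ^ a - 1)
    rw [sum_range_succ, hf0] at h1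
    exact (add_right_cancel h1).symm
  show -∑ r ∈ range (p ^ a - 1), (θ ^ k)⁻¹ ^ r * g ((⇑σ)^[r] (σ w)) =
    θ ^ k * -∑ r ∈ range (p ^ a - 1), f r
  rw [← hshift, mul_neg, mul_sum]
  refine congrArg Neg.neg (sum_congr rfl fun r _ => ?_)
  simp only [f, pow_succ (θ ^ k)⁻¹ r, Function.iterate_succ_apply]
  field_simp

theorem neg_sum_cancel (h : Gen F p a θ) (k : ℕ) (c : F) :
    -∑ r ∈ range (p ^ a - 1), (θ ^ k)⁻¹ ^ r * ((θ ^ r) ^ k * c) = c := by
  rw [sum_congr rfl fun r _ => show (θ ^ k)⁻¹ ^ r * ((θ ^ r) ^ k * c) = c by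
    rw [pow_pow_comm θ r, inv_pow, inv_mul_cancel_left₀]
    exact pow_ne_zero _ (pow_ne_zero _ h.ne_zero)]
  rw [sum_const, card_range, nsmul_eq_mul, h.cast_eq, neg_one_mul, neg_neg]

theorem jacobi_sum (m : ℕ) (T : F → F → F → F)
    (hJ : ∀ x y z, T x y z + T y z x + T z x y = 0) (u v w e : ℕ → F) :
    (∑ r ∈ range m, ∑ s ∈ range m, ∑ t ∈ range m, u r * v s * w t * T (e r) (e s) (e t)) +
      (∑ s ∈ range m, ∑ t ∈ range m, ∑ r ∈ range m, u r * v s * w t * T (e s) (e t) (e r)) +
      (∑ t ∈ range m, ∑ r ∈ range m, ∑ s ∈ range m, u r * v s * w t * T (e t) (e r) (e s)) = 0 := by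
  have e1 : (∑ s ∈ range m, ∑ t ∈ range m, ∑ r ∈ range m,
      u r * v s * w t * T (e s) (e t) (e r)) = ∑ r ∈ range m, ∑ s ∈ range m, ∑ t ∈ range m,
      u r * v s * w t * T (e s) (e t) (e r) := by
    rw [sum_comm (s := range m) (t := range m)
      (f := fun r s => ∑ t ∈ range m, u r * v s * w t * T (e s) (e t) (e r))]
    exact sum_congr rfl fun s _ => sum_comm
  have e2 : (∑ t ∈ range m, ∑ r ∈ range m, ∑ s ∈ range m,
      u r * v s * w t * T (e t) (e r) (e s)) = ∑ r ∈ range m, ∑ s ∈ range m, ∑ t ∈ range m,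
      u r * v s * w t * T (e t) (e r) (e s) := by
    rw [sum_comm]
    exact sum_congr rfl fun r _ => sum_comm
  rw [e1, e2]
  simp only [← sum_add_distrib, ← mul_add, hJ, mul_zero, sum_const_zero]

theorem coef3_eq (T : F → F → F → F) (i j l : ℕ) :
    coef3 p a θ T i j l = -∑ r ∈ range (p ^ a - 1), ∑ s ∈ range (p ^ a - 1),
      ∑ t ∈ range (p ^ a - 1), (θ ^ p ^ i)⁻¹ ^ r * (θ ^ p ^ j)⁻¹ ^ s * (θ ^ p ^ l)⁻¹ ^ t *
        T (θ ^ r) (θ ^ s) (θ ^ t) := by
  simp only [coef3, coef2, coef, mul_sum, mul_neg, sum_neg_distrib, neg_neg]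
  rw [sum_comm]
  refine congrArg Neg.neg (sum_congr rfl fun r _ => ?_)
  rw [sum_comm]
  exact sum_congr rfl fun s _ => sum_congr rfl fun t _ => by ring

section Main

variable {W U : Type*} [CommGroup W] [CommGroup U] [Finite W] [Finite U]

/-- The data of an equivariant product. -/
structure Prod2 (θ : F) (β : F → F → W) (σ : W →* W) : Prop where
  add_left : ∀ x y z, β (x + y) z = β x z * β y z
  add_right : ∀ x y z, β x (y + z) = β x y * β x z
  alt : ∀ x, β x x = 1
  equiv : ∀ x y, β (θ * x) (θ * y) = σ (β x y)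
  span : Subgroup.closure (Set.range fun q : F × F => β q.1 q.2) = ⊤

variable {β : F → F → W} {σ : W →* W}

theorem Prod2.iterate (hβ : Prod2 θ β σ) (r : ℕ) (x y : F) :
    (⇑σ)^[r] (β x y) = β (θ ^ r * x) (θ ^ r * y) := by
  induction r with
  | zero => simp
  | succ r ih => rw [Function.iterate_succ_apply', ih, ← hβ.equiv, pow_succ', mul_assoc, mul_assoc]

theorem Prod2.period (hβ : Prod2 θ β σ) (h : Gen F p a θ) (w : W) :
    (⇑σ)^[p ^ a - 1] w = w := by
  have hw : w ∈ Subgroup.closure (Set.range fun q : F × F => β q.1 q.2) := hβ.span ▸ trivial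
  induction hw using Subgroup.closure_induction with
  | mem v hv => obtain ⟨⟨x, y⟩, rfl⟩ := hv; simp [hβ.iterate, h.pow_eq_one]
  | one => exact iterate_map_one σ _
  | mul v v' _ _ hv hv' => rw [iterate_map_mul, hv, hv']
  | inv v _ hv => rw [iterate_map_inv, hv]

/-- Only antipodal pairs of exponents occur in the first product. -/
theorem Prod2.antipodal (hβ : Prod2 θ β σ) (h : Gen F p a θ) (hp : 3 ≤ p)
    (hWc : Nat.card W < p ^ a) (g : W → F) (hg : ∀ v w, g (v * w) = g v + g w) {i j : ℕ}
    (hi : i < a) (hj : j < a) (hne : coef2 p a θ (fun x y => g (β x y)) i j ≠ 0) :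
    i ≠ j ∧ ∃ d, 0 < d ∧ 2 * d = a ∧ j = (i + d) % a := by
  have hB1 : ∀ x y z, g (β (x + y) z) = g (β x z) + g (β y z) := fun x y z => by
    rw [hβ.add_left, hg]
  have hB2 : ∀ x y z, g (β x (y + z)) = g (β x y) + g (β x z) := fun x y z => by
    rw [hβ.add_right, hg]
  have hg1 : g 1 = 0 := by simpa using hg 1 1
  have hanti : ∀ x y, g (β y x) = -g (β x y) := fun x y => by
    have h1 : g (β (x + y) (x + y)) = 0 := by rw [hβ.alt, hg1]
    rw [hB1, hB2, hB2, hβ.alt, hβ.alt, hg1] at h1
    linear_combination h1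
  have hij : i ≠ j := by
    rintro rfl
    apply hne
    have h2 : coef2 p a θ (fun x y => g (β y x)) i i =
        -coef2 p a θ (fun x y => g (β x y)) i i := by
      have e : (fun x y => g (β y x)) = fun x y => (-1) * g (β x y) :=
        funext fun x => funext fun y => by rw [hanti, neg_one_mul]
      simp only [coef2]
      rw [show (fun x => coef p a θ (fun y => g (β y x)) i) =
          fun x => (-1) * coef p a θ (fun y => g (β x y)) i from funext fun x => by
        rw [← coef_mul]; exact congrArg (coef p a θ · i) (congrFun e x), coef_mul, neg_one_mul]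
    rw [coef2_comm (fun x y => g (β x y))] at h2
    have h3 : (2 : F) ≠ 0 := by
      intro e
      have h4 : ((2 : ℕ) : F) = 0 := by exact_mod_cast e
      have := Nat.le_of_dvd two_pos ((CharP.cast_eq_zero_iff F p 2).mp h4)
      omega
    have h5 : (2 : F) * coef2 p a θ (fun x y => g (β x y)) i i = 0 := by linear_combination h2
    exact (mul_eq_zero.mp h5).resolve_left h3
  refine ⟨hij, ?_⟩
  set k := p ^ i + p ^ j with hk
  let gk := proj p a θ σ g k
  have hval : coef2 p a θ (fun x y => gk (β x y)) i j = coef2 p a θ (fun x y => g (β x y)) i j := by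
    have e : (fun x y => gk (β x y)) = fun x y =>
        ∑ r ∈ range (p ^ a - 1), -(θ ^ k)⁻¹ ^ r * g (β (θ ^ r * x) (θ ^ r * y)) := by
      funext x y
      simp only [gk, proj, hβ.iterate, ← sum_neg_distrib, neg_mul]
    rw [e]
    simp only [coef2]
    simp_rw [coef_lin]
    have e2 : ∀ r, coef p a θ (fun x => coef p a θ (fun y => g (β (θ ^ r * x) (θ ^ r * y))) j) i =
        (θ ^ r) ^ k * coef2 p a θ (fun x y => g (β x y)) i j := fun r =>
      coef2_scale h (fun x y => g (β x y)) hB1 hB2 (θ ^ r) hi hj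
    simp_rw [e2, neg_mul, sum_neg_distrib]
    exact neg_sum_cancel h k _
  have hne' : ∃ w, gk w ≠ 0 := by
    by_contra hcon
    push Not at hcon
    refine hne (hval ▸ ?_)
    simp [coef2, hcon, coef_zero]
  obtain ⟨d, hd0, hda, hd⟩ := exists_fixing h hWc σ gk (proj_mul σ g hg k)
    (proj_apply h σ (hβ.period h) g k) hne'
  exact ⟨d, hd0, CfsgLib.OneException.antipodal hp hi hj hij hd0 hda hd⟩

theorem no_class_three (h : Gen F p a θ) (hp : 3 ≤ p) (hWc : Nat.card W < p ^ a)
    (hUc : Nat.card U < p ^ a) (hU : ∀ u : U, u ^ p = 1) (hβ : Prod2 θ β σ) (τ : W → F → U)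
    (ρ : U →* U) (τl : ∀ v w z, τ (v * w) z = τ v z * τ w z)
    (τr : ∀ w y z, τ w (y + z) = τ w y * τ w z)
    (hρ : ∀ w z, τ (σ w) (θ * z) = ρ (τ w z))
    (jac : ∀ x y z, τ (β x y) z * τ (β y z) x * τ (β z x) y = 1)
    (hspan : Subgroup.closure (Set.range fun q : F × F × F => τ (β q.1 q.2.1) q.2.2) = ⊤)
    (u : U) : u = 1 := by
  classical
  by_contra hu
  -- a functional not vanishing at `u`
  obtain ⟨f, hf, hfu⟩ : ∃ f : U → F, (∀ v w, f (v * w) = f v + f w) ∧ f u ≠ 0 := by
    haveI : Module (ZMod p) (Additive U) :=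
      AddCommGroup.zmodModule (n := p) (G := Additive U) fun v => hU v
    letI : Algebra (ZMod p) F := ZMod.algebra F p
    obtain ⟨φ, hφ⟩ : ∃ φ : Additive U →ₗ[ZMod p] ZMod p, φ (Additive.ofMul u) ≠ 0 := by
      by_contra hcon
      push Not at hcon
      exact hu (Additive.ofMul.injective ((Module.forall_dual_apply_eq_zero_iff (ZMod p) _).mp hcon))
    refine ⟨fun v => algebraMap (ZMod p) F (φ (Additive.ofMul v)), fun v w => ?_, fun e => ?_⟩
    · simp only [ofMul_mul, map_add, map_add]
    · exact hφ ((map_eq_zero _).mp e)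
  let T : F → F → F → F := fun x y z => f (τ (β x y) z)
  have h1 : ∀ x y z w, T (x + y) z w = T x z w + T y z w := fun x y z w => by
    simp only [T, hβ.add_left, τl, hf]
  have h2 : ∀ x y z w, T x (y + z) w = T x y w + T x z w := fun x y z w => by
    simp only [T, hβ.add_right, τl, hf]
  have h3 : ∀ x y z w, T x y (z + w) = T x y z + T x y w := fun x y z w => by
    simp only [T, τr, hf]
  have hf1 : f 1 = 0 := by simpa using hf 1 1
  -- some coefficient is nonzero
  obtain ⟨i, hi, j, hj, l, hl, hne⟩ : ∃ i < a, ∃ j < a, ∃ l < a, coef3 p a θ T i j l ≠ 0 := by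
    by_contra hcon
    push Not at hcon
    have hz : ∀ x y z, T x y z = 0 := by
      intro x y z
      rw [eq_sum_coef h (fun x => T x y z) (fun _ _ => h1 _ _ _ _) x]
      refine sum_eq_zero fun i hi => ?_
      have e1 : coef p a θ (fun x => T x y z) i = 0 := by
        rw [eq_sum_coef h (fun y => coef p a θ (fun x => T x y z) i) (fun y y' => by
          rw [← coef_add]; exact congrArg (coef p a θ · i) (funext fun x => h2 x y y' z)) y]
        refine sum_eq_zero fun j hj => ?_
        have e2 : coef p a θ (fun y => coef p a θ (fun x => T x y z) i) j = 0 := by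
          have e3 : ∀ z, coef p a θ (fun y => coef p a θ (fun x => T x y z) i) j =
              coef2 p a θ (fun x y => T x y z) i j := fun z =>
            coef2_comm (fun x y => T x y z) j i
          rw [e3, eq_sum_coef h (fun z => coef2 p a θ (fun x y => T x y z) i j) (fun z z' => by
            simp only [coef2]
            rw [← coef_add]
            refine congrArg (coef p a θ · i) (funext fun x => ?_)
            rw [← coef_add]
            exact congrArg (coef p a θ · j) (funext fun y => h3 x y z z')) z]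
          exact sum_eq_zero fun l hl => by
            rw [show coef p a θ (fun z => coef2 p a θ (fun x y => T x y z) i j) l = 0 from
              hcon i (mem_range.mp hi) j (mem_range.mp hj) l (mem_range.mp hl), zero_mul]
        rw [e2, zero_mul]
      rw [e1, zero_mul]
    suffices hall : ∀ v : U, f v = 0 from hfu (hall u)
    intro v
    have hv' : v ∈ Subgroup.closure (Set.range fun q : F × F × F => τ (β q.1 q.2.1) q.2.2) :=
      hspan ▸ trivial
    induction hv' using Subgroup.closure_induction with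
    | mem v hv => obtain ⟨⟨x, y, z⟩, rfl⟩ := hv; exact hz x y z
    | one => exact hf1
    | mul v v' _ _ hv hv' => rw [hf, hv, hv', add_zero]
    | inv v _ hv =>
      have := hf v⁻¹ v
      rw [inv_mul_cancel, hf1, hv, add_zero] at this
      exact this.symm
  -- the first two exponents are antipodal
  have anti : ∀ {i j l : ℕ}, i < a → j < a → coef3 p a θ T i j l ≠ 0 →
      i ≠ j ∧ ∃ d, 0 < d ∧ 2 * d = a ∧ j = (i + d) % a := by
    intro i j l hi hj hne
    by_contra hcon
    apply hne
    have hz : ∀ z, coef2 p a θ (fun x y => T x y z) i j = 0 := fun z => by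
      by_contra hz
      exact hcon (hβ.antipodal h hp hWc (fun w => f (τ w z)) (fun v w => by rw [τl, hf]) hi hj hz)
    simp only [coef3, hz, coef_zero]
  obtain ⟨hij, d, hd0, hd2, hjd⟩ := anti hi hj hne
  -- the Jacobi identity
  have hsum : coef3 p a θ T i j l + coef3 p a θ T j l i + coef3 p a θ T l i j = 0 := by
    have hJ : ∀ x y z, T x y z + T y z x + T z x y = 0 := fun x y z => by
      simp only [T, ← hf, jac, hf1]
    rw [coef3_eq, coef3_eq, coef3_eq, ← neg_add, ← neg_add, neg_eq_zero]
    refine Eq.trans ?_ (jacobi_sum (p ^ a - 1) T hJ (fun r => (θ ^ p ^ i)⁻¹ ^ r)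
      (fun r => (θ ^ p ^ j)⁻¹ ^ r) (fun r => (θ ^ p ^ l)⁻¹ ^ r) (fun r => θ ^ r))
    exact congrArg₂ (· + ·) (congrArg₂ (· + ·) rfl
      (sum_congr rfl fun _ _ => sum_congr rfl fun _ _ => sum_congr rfl fun _ _ => by ring))
      (sum_congr rfl fun _ _ => sum_congr rfl fun _ _ => sum_congr rfl fun _ _ => by ring)
  have hlij : l = i ∨ l = j := by
    by_contra hcon
    push Not at hcon
    have z1 : coef3 p a θ T j l i = 0 := by
      by_contra hz
      obtain ⟨-, d', hd', hd2', hl'⟩ := anti hj hl hz
      have e : d' = d := by omega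
      subst e
      rw [hjd, Nat.mod_add_mod, show i + d' + d' = i + a by omega, Nat.add_mod_right,
        Nat.mod_eq_of_lt hi] at hl'
      exact hcon.1 hl'
    have z2 : coef3 p a θ T l i j = 0 := by
      by_contra hz
      obtain ⟨-, d', hd', hd2', hl'⟩ := anti hl hi hz
      have e : d' = d := by omega
      subst e
      refine hcon.2 ?_
      rw [hjd, hl', Nat.mod_add_mod, show l + d' + d' = l + a by omega, Nat.add_mod_right,
        Nat.mod_eq_of_lt hl]
    rw [z1, z2, add_zero, add_zero] at hsum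
    exact hne hsum
  set k := p ^ i + p ^ j + p ^ l with hk
  -- the projection of the functional
  have hτit : ∀ r w z, τ ((⇑σ)^[r] w) (θ ^ r * z) = (⇑ρ)^[r] (τ w z) := by
    intro r w z
    induction r with
    | zero => simp
    | succ r ih =>
      rw [Function.iterate_succ_apply', Function.iterate_succ_apply', ← ih, ← hρ, pow_succ',
        mul_assoc]
  have hρper : ∀ v, (⇑ρ)^[p ^ a - 1] v = v := by
    intro v
    have hv : v ∈ Subgroup.closure (Set.range fun q : F × F × F => τ (β q.1 q.2.1) q.2.2) :=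
      hspan ▸ trivial
    induction hv using Subgroup.closure_induction with
    | mem v hv =>
      obtain ⟨⟨x, y, z⟩, rfl⟩ := hv
      show (⇑ρ)^[p ^ a - 1] (τ (β x y) z) = τ (β x y) z
      rw [← hτit, hβ.period h, h.pow_eq_one, one_mul]
    | one => exact iterate_map_one ρ _
    | mul v v' _ _ hv hv' => rw [iterate_map_mul, hv, hv']
    | inv v _ hv => rw [iterate_map_inv, hv]
  let fk := proj p a θ ρ f k
  have hne' : ∃ v, fk v ≠ 0 := by
    by_contra hcon
    push Not at hcon
    apply hne
    have hval : coef3 p a θ (fun x y z => fk (τ (β x y) z)) i j l = coef3 p a θ T i j l := by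
      have e : (fun x y z => fk (τ (β x y) z)) = fun x y z =>
          ∑ r ∈ range (p ^ a - 1), -(θ ^ k)⁻¹ ^ r * T (θ ^ r * x) (θ ^ r * y) (θ ^ r * z) := by
        funext x y z
        simp only [fk, proj, ← hτit, hβ.iterate, T, ← sum_neg_distrib, neg_mul]
      rw [e]
      simp only [coef3, coef2]
      simp_rw [coef_lin]
      have e2 : ∀ r, coef p a θ (fun z => coef p a θ (fun x => coef p a θ
          (fun y => T (θ ^ r * x) (θ ^ r * y) (θ ^ r * z)) j) i) l =
          (θ ^ r) ^ k * coef3 p a θ T i j l := fun r => coef3_scale h T h1 h2 h3 (θ ^ r) hi hj hl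
      simp_rw [e2, neg_mul, sum_neg_distrib]
      exact neg_sum_cancel h k _
    rw [← hval]
    simp [coef3, coef2, hcon, coef_zero]
  obtain ⟨e, he0, hea, he⟩ := exists_fixing h hUc ρ fk (proj_mul ρ f hf k)
    (proj_apply h ρ hρper f k) hne'
  rcases hlij with rfl | rfl
  · have hk' : k = 2 * p ^ l + p ^ j := by omega
    rw [hk'] at he
    exact no_fixed_triple hp hi hj hij he0 hea he
  · have hk' : k = 2 * p ^ l + p ^ i := by omega
    rw [hk'] at he
    exact no_fixed_triple hp hj hi hij.symm he0 hea he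

end Main

end CfsgLib.OneException
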